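import Mathlib.GroupTheory.FiniteAbelian.Basic
import Mathlib.GroupTheory.SpecificGroups.Cyclic
import Mathlib.GroupTheory.PGroup

/-!
A finite abelian group of exponent dividing r^v, order r^(av) and r-torsion of order at most r^a is homocyclic.
-/

set_option autoImplicit false

namespace Cfsg.Agent.Lib.ChevStructure.SylowHom

theorem homocyclic {G : Type*} [Group G] [Finite G] (hc : ∀ x y : G, x * y = y * x) {r v a : ℕ} [Fact r.Prime]
    (hv : 0 < v) (hexp : ∀ x : G, x ^ r ^ v = 1) (hcard : Nat.card G = r ^ (a * v))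
    (htor : Nat.card {x : G // x ^ r = 1} ≤ r ^ a) :
    Nonempty (G ≃* (Fin a → Multiplicative (ZMod (r ^ v)))) := by
  classical
  have hr : r.Prime := Fact.out
  let : CommGroup G := { (inferInstance : Group G) with mul_comm := hc }
  obtain ⟨ι, hι, n, hn, ⟨φ⟩⟩ := CommGroup.equiv_prod_multiplicative_zmod_of_finite G
  have hdiv : ∀ i, ∃ k, 1 ≤ k ∧ k ≤ v ∧ n i = r ^ k := by
    intro i
    have h1 := congrArg φ (hexp (φ.symm
      (Pi.mulSingle (M := fun j => Multiplicative (ZMod (n j))) i (Multiplicative.ofAdd (1 : ZMod (n i))))))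
    rw [map_pow, MulEquiv.apply_symm_apply, map_one φ] at h1
    have h2 := congrArg Multiplicative.toAdd (congrFun h1 i)
    rw [Pi.pow_apply, Pi.mulSingle_eq_same, toAdd_pow, toAdd_ofAdd, nsmul_one, Pi.one_apply, toAdd_one,
      ZMod.natCast_eq_zero_iff] at h2
    obtain ⟨k, hk, hnk⟩ := (Nat.dvd_prime_pow hr).1 h2
    refine ⟨k, Nat.one_le_iff_ne_zero.2 fun h0 => ?_, hk, hnk⟩
    have := hn i
    rw [hnk, h0, pow_zero] at this
    exact lt_irrefl 1 this
  choose k hk1 hkv hnk using hdiv
  haveI : ∀ i, NeZero (n i) := fun i => ⟨by have := hn i; omega⟩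
  have hsum : ∑ i, k i = a * v := by
    refine Nat.pow_right_injective hr.two_le ?_
    show r ^ (∑ i, k i) = r ^ (a * v)
    rw [← hcard, Nat.card_congr φ.toEquiv, Nat.card_pi, ← Finset.prod_pow_eq_pow_sum]
    refine Finset.prod_congr rfl fun i _ => ?_
    rw [Nat.card_congr Multiplicative.toAdd, Nat.card_zmod, hnk]
  have hle : Fintype.card ι ≤ a := by
    refine (Nat.pow_le_pow_iff_right hr.one_lt).1 (le_trans (le_of_eq ?_) htor)
    rw [Nat.card_congr ((φ.toEquiv.subtypeEquiv (p := fun x => x ^ r = 1)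
        (q := fun x => ∀ i, x i ^ r = 1) fun x => ?_).trans
          (Equiv.subtypePiEquivPi (p := fun i (x : Multiplicative (ZMod (n i))) => x ^ r = 1))), Nat.card_pi,
      ← Finset.card_univ, ← Finset.prod_const]
    · refine Finset.prod_congr rfl fun i _ => ?_
      have h := IsCyclic.card_powMonoidHom_ker (Multiplicative (ZMod (n i))) r
      rw [Nat.card_congr Multiplicative.toAdd, Nat.card_zmod,
        Nat.gcd_eq_right (hnk i ▸ dvd_pow_self r (by have := hk1 i; omega))] at h
      exact h.symm.trans (Nat.card_congr (Equiv.subtypeEquivRight fun x => Iff.rfl))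
    · rw [← φ.injective.eq_iff, map_pow, map_one]
      exact ⟨fun h i => congrFun h i, funext⟩
  have hub : ∑ i, k i ≤ Fintype.card ι * v := by
    refine (Finset.sum_le_sum (g := fun _ => v) fun i _ => hkv i).trans ?_
    simp
  have hcardι : Fintype.card ι = a := le_antisymm hle (Nat.le_of_mul_le_mul_right (hsum ▸ hub) hv)
  have hall : ∀ i, n i = r ^ v := by
    intro i
    rw [hnk]
    congr 1
    have h := (Finset.sum_eq_sum_iff_of_le (s := Finset.univ) (f := k) (g := fun _ => v) fun i _ => hkv i).1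
      (by rw [hsum, Finset.sum_const, Finset.card_univ, hcardι, smul_eq_mul]) i (Finset.mem_univ i)
    exact h
  exact ⟨(φ.trans (MulEquiv.piCongrRight fun i => (ZMod.ringEquivCongr (hall i)).toAddEquiv.toMultiplicative)).trans
    { Equiv.arrowCongr (Fintype.equivFinOfCardEq hcardι) (Equiv.refl (Multiplicative (ZMod (r ^ v)))) with
      map_mul' := fun _ _ => rfl }⟩

end Cfsg.Agent.Lib.ChevStructure.SylowHom
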