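import Mathlib.LinearAlgebra.Eigenspace.Zero
import Mathlib.LinearAlgebra.Matrix.Charpoly.LinearMap
import Mathlib.LinearAlgebra.Matrix.Charpoly.Coeff
import Mathlib.LinearAlgebra.Matrix.ToLinearEquiv
import Mathlib.RingTheory.Polynomial.Cyclotomic.Roots
import Mathlib.RingTheory.Polynomial.Cyclotomic.Expand
import Mathlib.Analysis.Complex.Polynomial.Basic
import Mathlib.RingTheory.UniqueFactorizationDomain.Multiplicity

/-!
For an integer matrix of finite order e, an eigenvalue of order d modulo a prime not dividing e has multiplicity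
at most the multiplicity of the d-th cyclotomic polynomial in the characteristic polynomial.
-/

set_option autoImplicit false

namespace Cfsg.Agent.Lib.ChevStructure.SylowHom

open Polynomial Matrix

variable {l : ℕ}

/-- The eigenspace of the transpose modulo r: the functionals E with E M = q E. -/
noncomputable def eig (M : Matrix (Fin l) (Fin l) ℤ) {r : ℕ} [Fact r.Prime] (q : ZMod r) :
    Submodule (ZMod r) (Fin l → ZMod r) :=
  Module.End.eigenspace (Matrix.toLin' (M.map (Int.cast : ℤ → ZMod r))ᵀ) q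

theorem mem_eig {M : Matrix (Fin l) (Fin l) ℤ} {r : ℕ} [Fact r.Prime] {q : ZMod r} {E : Fin l → ZMod r} :
    E ∈ eig M q ↔ E ᵥ* M.map (Int.cast : ℤ → ZMod r) = q • E := by
  rw [eig, Module.End.mem_eigenspace_iff, Matrix.toLin'_apply, Matrix.mulVec_transpose]

theorem multiset_prod_dvd_pow {α : Type*} [CommMonoid α] {R : α} : ∀ s : Multiset α,
    (∀ a ∈ s, a ∣ R) → s.prod ∣ R ^ Multiset.card s := by
  intro s
  induction s using Multiset.induction_on with
  | empty => simp
  | cons a s ih =>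
    intro h
    rw [Multiset.prod_cons, Multiset.card_cons, pow_succ']
    exact mul_dvd_mul (h a (Multiset.mem_cons_self a s)) (ih fun b hb => h b (Multiset.mem_cons_of_mem hb))

theorem pow_eq_one_of_root {M : Matrix (Fin l) (Fin l) ℤ} {e : ℕ} (hM : M ^ e = 1) {μ : ℂ}
    (h : aeval μ M.charpoly = 0) : μ ^ e = 1 := by
  set A : Matrix (Fin l) (Fin l) ℂ := (Int.castRingHom ℂ).mapMatrix M
  have hA : A ^ e = 1 := by rw [← map_pow, hM, map_one]
  have h0 : (Matrix.scalar (Fin l) μ - A).det = 0 := by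
    rw [← Matrix.eval_charpoly, show A = M.map (Int.castRingHom ℂ) from rfl, Matrix.charpoly_map, eval_map]
    exact h
  obtain ⟨v, hv, hv0⟩ := Matrix.exists_mulVec_eq_zero_iff.2 h0
  have hAv : A *ᵥ v = μ • v := by
    rw [Matrix.sub_mulVec, sub_eq_zero] at hv0
    rw [← hv0, Matrix.scalar_apply]
    funext i
    rw [Matrix.mulVec_diagonal, Pi.smul_apply, smul_eq_mul]
  have hp : ∀ n : ℕ, (A ^ n) *ᵥ v = μ ^ n • v := by
    intro n
    induction n with
    | zero => simp
    | succ n ih => rw [pow_succ', pow_succ', ← Matrix.mulVec_mulVec, ih, Matrix.mulVec_smul, hAv, smul_smul, mul_comm]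
  obtain ⟨i, hi⟩ := Function.ne_iff.1 hv
  have := congrFun (hp e) i
  rw [hA, Matrix.one_mulVec, Pi.smul_apply, smul_eq_mul] at this
  exact (mul_eq_right₀ hi).1 this.symm

theorem pow_eq_one_of_eig {M : Matrix (Fin l) (Fin l) ℤ} {e : ℕ} (hM : M ^ e = 1) {r : ℕ} [Fact r.Prime]
    {q : ZMod r} (hb : eig M q ≠ ⊥) : q ^ e = 1 := by
  obtain ⟨E, hE, hE0⟩ := (Submodule.ne_bot_iff _).1 hb
  rw [mem_eig] at hE
  have hp : ∀ n : ℕ, E ᵥ* (M ^ n).map (Int.cast : ℤ → ZMod r) = q ^ n • E := by
    intro n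
    induction n with
    | zero => rw [pow_zero, pow_zero, Matrix.map_one _ Int.cast_zero Int.cast_one, Matrix.vecMul_one, one_smul]
    | succ n ih =>
      rw [pow_succ, show (M ^ n * M).map (Int.cast : ℤ → ZMod r) =
        (Int.castRingHom (ZMod r)).mapMatrix (M ^ n * M) from rfl, map_mul, ← Matrix.vecMul_vecMul]
      show (E ᵥ* (M ^ n).map (Int.cast : ℤ → ZMod r)) ᵥ* M.map (Int.cast : ℤ → ZMod r) = _
      rw [ih, Matrix.smul_vecMul, hE, smul_smul, ← pow_succ]
  obtain ⟨i, hi⟩ := Function.ne_iff.1 hE0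
  have := congrFun (hp e) i
  rw [hM, Matrix.map_one _ Int.cast_zero Int.cast_one, Matrix.vecMul_one, Pi.smul_apply, smul_eq_mul] at this
  exact (mul_eq_right₀ hi).1 this.symm

/-- The decomposition of the characteristic polynomial and the bound on the eigenspace modulo r. -/
theorem charpoly_split {M : Matrix (Fin l) (Fin l) ℤ} {e : ℕ} (he : 0 < e) (hM : M ^ e = 1) {r : ℕ}
    [Fact r.Prime] (hre : ¬ r ∣ e) {q : ZMod r} {d : ℕ} (hd : orderOf q = d) (hd0 : 0 < d) :
    ∃ (k : ℕ) (h : ℤ[X]), M.charpoly = cyclotomic d ℤ ^ k * h ∧ h.Monic ∧ ¬ cyclotomic d ℤ ∣ h ∧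
      k * d.totient + h.natDegree = l ∧ Module.finrank (ZMod r) (eig M q) ≤ k ∧
      (eig M q ≠ ⊥ → aeval M (cyclotomic d ℤ * h) = 0) := by
  have hΦu : ¬ IsUnit (cyclotomic d ℤ) := (cyclotomic.irreducible hd0).not_isUnit
  obtain ⟨k, h, hndvd, hχ⟩ := WfDvdMonoid.max_power_factor' M.charpoly_monic.ne_zero hΦu
  have hmon : h.Monic := Monic.of_mul_monic_left ((cyclotomic.monic d ℤ).pow k) (hχ ▸ M.charpoly_monic)
  have hdeg : k * d.totient + h.natDegree = l := by
    have h1 := M.charpoly_natDegree_eq_dim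
    rw [hχ, Monic.natDegree_mul ((cyclotomic.monic d ℤ).pow k) hmon, natDegree_pow, natDegree_cyclotomic,
      Fintype.card_fin] at h1
    exact h1
  refine ⟨k, h, hχ, hmon, hndvd, hdeg, ?_⟩
  by_cases hb : eig M q = ⊥
  · exact ⟨by rw [hb, finrank_bot]; exact Nat.zero_le k, fun h' => absurd hb h'⟩
  -- q is an e-th root of unity
  have hqe : q ^ e = 1 := pow_eq_one_of_eig hM hb
  have hde : d ∣ e := hd ▸ orderOf_dvd_of_pow_eq_one hqe
  have hq : IsPrimitiveRoot q d := IsPrimitiveRoot.iff_orderOf.2 hd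
  haveI : NeZero ((d : ℕ) : ZMod r) := ⟨fun h0 => hre (((ZMod.natCast_eq_zero_iff d r).1 h0).trans hde)⟩
  haveI : NeZero ((d : ℕ) : ℂ) := ⟨Nat.cast_ne_zero.2 hd0.ne'⟩
  obtain ⟨R, hR⟩ : cyclotomic d ℤ ∣ X ^ e - 1 := by
    rw [← prod_cyclotomic_eq_X_pow_sub_one he]
    exact Finset.dvd_prod_of_mem _ (Nat.mem_divisors.2 ⟨hde, he.ne'⟩)
  have hRm : R.Monic := Monic.of_mul_monic_left (cyclotomic.monic d ℤ) (hR ▸ monic_X_pow_sub_C 1 he.ne')
  -- q is not a root of R
  have hsep : (X ^ e - 1 : (ZMod r)[X]).Separable := by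
    rw [← map_one C]
    exact separable_X_pow_sub_C (1 : ZMod r) (fun h0 => hre ((ZMod.natCast_eq_zero_iff e r).1 h0)) one_ne_zero
  have hΦq : IsRoot (cyclotomic d (ZMod r)) q := isRoot_cyclotomic_iff.2 hq
  have hRq : ¬ IsRoot (R.map (Int.castRingHom (ZMod r))) q := by
    intro h0
    have e1 := congrArg (Polynomial.map (Int.castRingHom (ZMod r))) hR
    rw [Polynomial.map_mul, Polynomial.map_sub, Polynomial.map_pow, map_X, Polynomial.map_one, map_cyclotomic] at e1
    rw [e1] at hsep
    exact (hsep.squarefree (X - C q) (mul_dvd_mul (dvd_iff_isRoot.2 hΦq) (dvd_iff_isRoot.2 h0))).elim fun u hu =>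
      not_isUnit_X_sub_C q ⟨u, hu⟩
  -- h divides a power of R
  have hhR : h ∣ R ^ h.natDegree := by
    refine (Polynomial.map_dvd_map (Int.castRingHom ℂ) Int.cast_injective hmon).1 ?_
    have hspl : (h.map (Int.castRingHom ℂ)).Splits := IsAlgClosed.splits _
    rw [hspl.eq_prod_roots_of_monic (hmon.map _), Polynomial.map_pow,
      show h.natDegree = Multiset.card ((h.map (Int.castRingHom ℂ)).roots.map fun a => X - C a) by
        rw [Multiset.card_map, ← hspl.natDegree_eq_card_roots, hmon.natDegree_map]]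
    refine multiset_prod_dvd_pow _ fun a ha => ?_
    rw [Multiset.mem_map] at ha
    obtain ⟨μ, hμ, rfl⟩ := ha
    rw [mem_roots (hmon.map _).ne_zero, IsRoot, eval_map] at hμ
    have hμ' : aeval μ h = 0 := hμ
    have hμe : μ ^ e = 1 := pow_eq_one_of_root hM (by rw [hχ, map_mul, hμ', mul_zero])
    have hne : aeval μ (cyclotomic d ℤ) ≠ 0 := by
      intro h0
      have hp : IsPrimitiveRoot μ d := by
        rw [← isRoot_cyclotomic_iff, ← map_cyclotomic d (Int.castRingHom ℂ), IsRoot, eval_map]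
        exact h0
      refine hndvd ?_
      rw [cyclotomic_eq_minpoly hp hd0]
      exact minpoly.isIntegrallyClosed_dvd (hp.isIntegral hd0) hμ'
    rw [dvd_iff_isRoot, IsRoot, eval_map]
    have h1 := congrArg (aeval μ) hR
    rw [map_mul, map_sub, map_pow, aeval_X, map_one, hμe, sub_self, eq_comm, mul_eq_zero] at h1
    exact h1.resolve_left hne
  have hhq : ¬ IsRoot (h.map (Int.castRingHom (ZMod r))) q := by
    intro h0
    obtain ⟨c, hc⟩ := hhR
    refine hRq ?_
    have h1 := congrArg (Polynomial.map (Int.castRingHom (ZMod r))) hc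
    rw [Polynomial.map_pow, Polynomial.map_mul] at h1
    have h2 := congrArg (Polynomial.eval q) h1
    rw [eval_pow, eval_mul, h0.eq_zero, zero_mul] at h2
    exact eq_zero_of_pow_eq_zero h2
  have hbound : Module.finrank (ZMod r) (eig M q) ≤ k := by
    -- multiplicity
    refine (LinearMap.finrank_eigenspace_le _ q).trans ?_
    rw [Matrix.charpoly_toLin', Matrix.charpoly_transpose,
      show M.map (Int.cast : ℤ → ZMod r) = M.map (Int.castRingHom (ZMod r)) from rfl, Matrix.charpoly_map, hχ,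
      Polynomial.map_mul, Polynomial.map_pow, map_cyclotomic, ← count_roots, roots_mul, roots_pow, Multiset.count_add,
      Multiset.count_nsmul, Multiset.count_eq_zero.2 (fun h0 => hhq (isRoot_of_mem_roots h0)), add_zero]
    · exact le_trans (Nat.mul_le_mul_left k (Multiset.nodup_iff_count_le_one.1 (roots_cyclotomic_nodup (n := d)) q))
        (by rw [mul_one])
    · exact mul_ne_zero (pow_ne_zero _ (cyclotomic_ne_zero _ _)) (hmon.map _).ne_zero
  refine ⟨hbound, fun _ => ?_⟩
  · -- semisimplicity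
    set f := (Int.castRingHom ℚ)
    set Φ := (cyclotomic d ℤ).map f
    set R' := R.map f
    have hirr : Irreducible Φ := by rw [show Φ = _ from map_cyclotomic d f]; exact cyclotomic.irreducible_rat hd0
    have hprod : Φ * R' = X ^ e - 1 := by
      rw [← Polynomial.map_mul, ← hR, Polynomial.map_sub, Polynomial.map_pow, map_X, Polynomial.map_one]
    have hco : IsCoprime Φ R' := by
      refine hirr.coprime_iff_not_dvd.2 fun h0 => hirr.not_isUnit ?_
      have hs : (X ^ e - 1 : ℚ[X]).Separable := by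
        rw [← map_one C]
        exact separable_X_pow_sub_C (1 : ℚ) (Nat.cast_ne_zero.2 he.ne') one_ne_zero
      rw [← hprod] at hs
      exact hs.squarefree Φ (mul_dvd_mul_left _ h0)
    obtain ⟨u, v, huv⟩ := hco
    set A : Matrix (Fin l) (Fin l) ℚ := f.mapMatrix M
    have hA : ∀ p : ℤ[X], aeval A (p.map f) = f.mapMatrix (aeval M p) := by
      intro p
      induction p using Polynomial.induction_on' with
      | add a b ha hb => simp only [Polynomial.map_add, map_add, ha, hb]
      | monomial n a =>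
        simp only [Polynomial.map_monomial, aeval_monomial, map_mul, map_pow]
        congr 1
        simp [f, Algebra.algebraMap_eq_smul_one, map_intCast]
    have hzero : ∀ j, aeval A (Φ ^ (j + 1) * h.map f) = 0 → aeval A (Φ * h.map f) = 0 := by
      intro j
      induction j with
      | zero => rw [pow_one]; exact id
      | succ j ih =>
        intro hj
        refine ih ?_
        have hsplit : Φ ^ (j + 1) * h.map f =
            (Φ ^ j * h.map f * v) * (Φ * R') + u * (Φ ^ (j + 1 + 1) * h.map f) := by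
          conv_lhs => rw [← one_mul (Φ ^ (j + 1) * h.map f), ← huv]
          ring
        rw [hsplit, map_add, map_mul, map_mul _ u, hj, mul_zero, add_zero, hprod, map_sub, map_pow, aeval_X,
          map_one, ← map_pow, hM, map_one, sub_self, mul_zero]
    have hk : 1 ≤ k := le_trans (Nat.one_le_iff_ne_zero.2 fun h0 => hb (Submodule.finrank_eq_zero.1 h0)) hbound
    have h0 : aeval A (Φ ^ (k - 1 + 1) * h.map f) = 0 := by
      rw [Nat.sub_add_cancel hk, ← Polynomial.map_pow, ← Polynomial.map_mul, ← hχ, hA, Matrix.aeval_self_charpoly,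
        map_zero]
    have h1 := hzero _ h0
    rw [← Polynomial.map_mul, hA] at h1
    exact Matrix.map_injective Int.cast_injective (h1.trans (Matrix.map_zero _ Int.cast_zero).symm)

/-- When the rest of the characteristic polynomial is linear, its kernel is a line. -/
theorem line {M : Matrix (Fin l) (Fin l) ℤ} {k d : ℕ} {ε : ℤ} (hχ : M.charpoly = cyclotomic d ℤ ^ k * (X - C ε))
    (hε : (cyclotomic d ℤ).eval ε ≠ 0) {y u : Fin l → ℤ} (hy : M *ᵥ y = ε • y) (hu : M *ᵥ u = ε • u)
    (hu0 : u ≠ 0) : ∃ c : ℚ, ∀ i, c * (u i : ℚ) = (y i : ℚ) := by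
  set f := (Int.castRingHom ℚ)
  set T : Module.End ℚ (Fin l → ℚ) := Matrix.toLin' (M.map f)
  have hle : Module.finrank ℚ (T.eigenspace (ε : ℚ)) ≤ 1 := by
    refine (LinearMap.finrank_eigenspace_le T (ε : ℚ)).trans ?_
    rw [Matrix.charpoly_toLin', Matrix.charpoly_map, hχ, Polynomial.map_mul, Polynomial.map_pow, Polynomial.map_sub,
      map_X, map_C, eq_intCast, rootMultiplicity_mul (mul_ne_zero
        (pow_ne_zero _ ((cyclotomic.monic d ℤ).map f).ne_zero) (X_sub_C_ne_zero _)), rootMultiplicity_X_sub_C_self,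
      rootMultiplicity_eq_zero, zero_add]
    rw [IsRoot, eval_pow, ← eq_intCast f ε, eval_map, eval₂_at_apply, eq_intCast]
    exact pow_ne_zero _ (Int.cast_ne_zero.2 hε)
  have hmem : ∀ w : Fin l → ℤ, M *ᵥ w = ε • w → (fun i => (w i : ℚ)) ∈ T.eigenspace (ε : ℚ) := by
    intro w hw
    rw [Module.End.mem_eigenspace_iff, Matrix.toLin'_apply]
    funext i
    have := (f.map_mulVec M w i).symm
    rw [hw] at this
    simpa [f, Function.comp_def] using this
  let U : T.eigenspace (ε : ℚ) := ⟨_, hmem u hu⟩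
  have hU : U ≠ 0 := fun h0 => hu0 (funext fun i => Int.cast_injective (α := ℚ)
    ((congrFun (congrArg Subtype.val h0) i).trans Int.cast_zero.symm))
  obtain ⟨c, hc⟩ := exists_smul_eq_of_finrank_eq_one (le_antisymm hle
    (Module.finrank_pos_iff_exists_ne_zero.2 ⟨U, hU⟩)) hU ⟨_, hmem y hy⟩
  exact ⟨c, fun i => congrFun (congrArg Subtype.val hc) i⟩

end Cfsg.Agent.Lib.ChevStructure.SylowHom
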