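import Cfsg.Agent.Lib.ChevStructure.RegTorus.Gram
import Cfsg.Agent.Lib.ChevStructure.SylowHom.Eigen
import Cfsg.Agent.Lib.ChevStructure.Cert.D4
import Cfsg.Agent.Lib.ChevStructure.Cert.E6
import Cfsg.Agent.Lib.ChevStructure.Cert.E7

/-!
The exceptional bounds on the multiplicity of an eigenvalue of order d of a Weyl group element:
D4 (d = 3, 6), E6 (d = 2, 4, 6) and E7 (d = 4).
-/

set_option autoImplicit false
set_option maxRecDepth 100000
set_option linter.unusedSectionVars false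

namespace Cfsg.Agent.Lib.ChevStructure.SylowHom

open Cfsg.Lie Cfsg.Agent.Lib.ChevStructure.RegTorus Polynomial
open scoped Matrix

noncomputable section

section Form

variable {l : ℕ} (B : Matrix (Fin l) (Fin l) ℤ)

theorem bil_add_left (x y z : Fin l → ℤ) : bil B (x + y) z = bil B x z + bil B y z := by
  simp [bil, add_dotProduct]

theorem bil_add_right (x y z : Fin l → ℤ) : bil B x (y + z) = bil B x y + bil B x z := by
  simp [bil, Matrix.mulVec_add, dotProduct_add]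

theorem bil_sub_left (x y z : Fin l → ℤ) : bil B (x - y) z = bil B x z - bil B y z := by
  simp [bil, sub_dotProduct]

theorem bil_sub_right (x y z : Fin l → ℤ) : bil B x (y - z) = bil B x y - bil B x z := by
  simp [bil, Matrix.mulVec_sub, dotProduct_sub]

theorem bil_smul_left (a : ℤ) (x y : Fin l → ℤ) : bil B (a • x) y = a * bil B x y := by
  rw [bil, bil, smul_dotProduct, smul_eq_mul]

theorem bil_smul_right (a : ℤ) (x y : Fin l → ℤ) : bil B x (a • y) = a * bil B x y := by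
  rw [bil, bil, Matrix.mulVec_smul, dotProduct_smul, smul_eq_mul]

theorem bil_single (i : Fin l) (u : Fin l → ℤ) : bil B (Pi.single i 1) u = (B *ᵥ u) i := by
  simp [bil]

theorem bil_cast (m : ℕ) (x y : Fin l → ℤ) : ((bil B x y : ℤ) : ZMod m) =
    (fun i => (x i : ZMod m)) ⬝ᵥ B.map (Int.cast : ℤ → ZMod m) *ᵥ fun i => (y i : ZMod m) := by
  rw [bil, dotProduct, Int.cast_sum, dotProduct]
  refine Finset.sum_congr rfl fun i _ => ?_
  rw [Int.cast_mul]
  congr 1
  exact (Int.castRingHom (ZMod m)).map_mulVec _ _ i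

/-- a positive multiple of the form is a sum of squares -/
theorem bil_pos {U : Matrix (Fin l) (Fin l) ℤ} {L : Fin l → ℤ} {k d : ℤ} {B' : Matrix (Fin l) (Fin l) ℤ}
    (hk : 0 < k) (hd : d ≠ 0) (hB' : B' * B = d • 1) (hL : ∀ i, 0 < L i)
    (h : Uᵀ * Matrix.diagonal L * U = k • B) {u : Fin l → ℤ} (hu : u ≠ 0) : 0 < bil B u u := by
  have e : k * bil B u u = ∑ i, L i * (U *ᵥ u) i ^ 2 := by
    have e1 : k * bil B u u = bil (k • B) u u := by
      rw [bil, bil, Matrix.smul_mulVec, dotProduct_smul, smul_eq_mul]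
    rw [e1, ← h, bil, Matrix.mul_assoc, ← Matrix.mulVec_mulVec, Matrix.dotProduct_mulVec u Uᵀ,
      Matrix.vecMul_transpose, ← Matrix.mulVec_mulVec, dotProduct]
    exact Finset.sum_congr rfl fun i _ => by rw [Matrix.mulVec_diagonal]; ring
  by_contra hle
  have h0 : ∑ i, L i * (U *ᵥ u) i ^ 2 = 0 :=
    le_antisymm (e ▸ mul_nonpos_of_nonneg_of_nonpos hk.le (not_lt.1 hle))
      (Finset.sum_nonneg fun i _ => mul_nonneg (hL i).le (sq_nonneg _))
  have hU : U *ᵥ u = 0 := funext fun i => by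
    have := (Finset.sum_eq_zero_iff_of_nonneg fun i _ => mul_nonneg (hL i).le (sq_nonneg _)).1 h0 i
      (Finset.mem_univ i)
    rcases mul_eq_zero.1 this with h1 | h1
    · exact absurd h1 (hL i).ne'
    · exact eq_zero_of_pow_eq_zero h1
  have hBu : k • (B *ᵥ u) = 0 := by
    rw [← Matrix.smul_mulVec, ← h, ← Matrix.mulVec_mulVec, hU, Matrix.mulVec_zero]
  rw [smul_eq_zero, or_iff_right hk.ne'] at hBu
  have := congrArg (fun A : Matrix (Fin l) (Fin l) ℤ => A *ᵥ u) hB'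
  simp only [← Matrix.mulVec_mulVec, hBu, Matrix.mulVec_zero, Matrix.smul_mulVec, Matrix.one_mulVec] at this
  exact hu ((smul_eq_zero.1 this.symm).resolve_left hd)

/-- The generator of the line of eigenvectors. -/
theorem exists_gen {M : Matrix (Fin l) (Fin l) ℤ} {k d : ℕ} {ε : ℤ}
    (hχ : M.charpoly = cyclotomic d ℤ ^ k * (X - C ε)) (hε : (cyclotomic d ℤ).eval ε ≠ 0)
    {y0 : Fin l → ℤ} (hy0 : M *ᵥ y0 = ε • y0) (h0 : y0 ≠ 0) :
    ∃ u : Fin l → ℤ, M *ᵥ u = ε • u ∧ Finset.univ.gcd u = 1 ∧ ∀ y, M *ᵥ y = ε • y → ∃ f : ℤ, y = f • u := by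
  obtain ⟨i0, hi0⟩ := Function.ne_iff.1 h0
  obtain ⟨u, hu, hu1⟩ := Finset.extract_gcd y0 (s := Finset.univ) ⟨i0, Finset.mem_univ _⟩
  set g := Finset.univ.gcd y0
  have hg : g ≠ 0 := fun h => hi0 (Finset.gcd_eq_zero_iff.1 h i0 (Finset.mem_univ _))
  have hy : y0 = g • u := funext fun i => hu i (Finset.mem_univ _)
  have hue : M *ᵥ u = ε • u := by
    rw [hy, Matrix.mulVec_smul, smul_comm ε] at hy0
    exact smul_right_injective _ hg hy0
  have hu0 : u ≠ 0 := fun h => h0 (by rw [hy, h, smul_zero])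
  refine ⟨u, hue, hu1, fun y hy' => ?_⟩
  obtain ⟨c, hc⟩ := line hχ hε hy' hue hu0
  have hden : (c.den : ℤ) ∣ 1 := hu1 ▸ Finset.dvd_gcd fun i _ => by
    refine (Int.isCoprime_iff_gcd_eq_one.2 c.reduced.symm : IsCoprime (c.den : ℤ) c.num).dvd_of_dvd_mul_left
      ⟨y i, ?_⟩
    refine Int.cast_injective (α := ℚ) ?_
    push_cast
    rw [← hc i, ← mul_assoc, mul_comm (c.den : ℚ) c, Rat.mul_den_eq_num]
  refine ⟨c.num, funext fun i => Int.cast_injective (α := ℚ) ?_⟩
  have h1 : c.den = 1 := by exact_mod_cast Int.eq_one_of_dvd_one (Int.natCast_nonneg _) hden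
  rw [Pi.smul_apply, smul_eq_mul, Int.cast_mul, Rat.coe_int_num_of_den_eq_one h1, hc i]

/-- n divides all doubled pairings, so n divides 2d. -/
theorem dvd_two_mul {B' : Matrix (Fin l) (Fin l) ℤ} {d : ℤ} (hB' : B' * B = d • 1) {u : Fin l → ℤ}
    (hu : Finset.univ.gcd u = 1) {n : ℤ} (hn : ∀ i, n ∣ 2 * (B *ᵥ u) i) : n ∣ 2 * d := by
  have h : ∀ i, n ∣ 2 * d * u i := by
    intro i
    have e := congrArg (fun A : Matrix (Fin l) (Fin l) ℤ => (A *ᵥ u) i) hB'
    simp only [← Matrix.mulVec_mulVec, Matrix.smul_mulVec, Matrix.one_mulVec, Pi.smul_apply, smul_eq_mul] at e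
    rw [mul_assoc, ← e, Matrix.mulVec, dotProduct, Finset.mul_sum]
    exact Finset.dvd_sum fun j _ => by rw [mul_left_comm]; exact Dvd.dvd.mul_left (hn j) _
  have h2 := Finset.dvd_gcd (s := Finset.univ) (f := fun i => 2 * d * u i) fun i _ => h i
  rw [Finset.gcd_mul_left, hu, mul_one] at h2
  exact dvd_normalize_iff.1 h2

theorem eps_sq {M : Matrix (Fin l) (Fin l) ℤ} {e : ℕ} (he : 0 < e) (hM : M ^ e = 1) {ε : ℤ}
    (h : M.charpoly.eval ε = 0) : ε = 1 ∨ ε = -1 := by
  have h1 : ((ε : ℤ) : ℂ) ^ e = 1 := pow_eq_one_of_root hM (by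
    rw [aeval_def, algebraMap_int_eq, ← eq_intCast (Int.castRingHom ℂ) ε, eval₂_at_apply, h, map_zero])
  have h2 : ε ^ e = 1 := by exact_mod_cast h1
  exact Int.isUnit_iff.1 (IsUnit.of_pow_eq_one h2 he.ne')

/-- A polynomial killing the matrix vanishes at 1 modulo p, if a vector is fixed modulo p. -/
theorem aeval_fixed {M : Matrix (Fin l) (Fin l) ℤ} {R : Type*} [CommRing R] {z : Fin l → R}
    (hz : M.map (Int.cast : ℤ → R) *ᵥ z = z) (p : ℤ[X]) :
    (aeval M p).map (Int.cast : ℤ → R) *ᵥ z = ((p.eval 1 : ℤ) : R) • z := by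
  have hz' : z ᵥ* (Mᵀ).map (Int.cast : ℤ → R) = (1 : R) • z := by
    rw [one_smul, Matrix.transpose_map, Matrix.vecMul_transpose, hz]
  have h := vecMul_aeval hz' p
  rw [aeval_transpose, Matrix.transpose_map, Matrix.vecMul_transpose] at h
  rw [h]
  congr 1
  rw [aeval_def, algebraMap_int_eq, ← eq_intCast (Int.castRingHom R) (p.eval 1), ← eval₂_at_apply, map_one]
where
  aeval_transpose {M : Matrix (Fin l) (Fin l) ℤ} {p : ℤ[X]} : aeval Mᵀ p = (aeval M p)ᵀ := by
    induction p using Polynomial.induction_on' with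
    | add a b ha hb => simp only [map_add, Matrix.transpose_add, ha, hb]
    | monomial n a =>
      rw [aeval_monomial, aeval_monomial, ← Algebra.smul_def, ← Algebra.smul_def, Matrix.transpose_smul,
        Matrix.transpose_pow]

end Form

theorem map_cast_mulVec {n : ℕ} {R : Type*} [CommRing R] (M N : Matrix (Fin n) (Fin n) ℤ) (z : Fin n → R) :
    (M * N).map (Int.cast : ℤ → R) *ᵥ z = M.map (Int.cast : ℤ → R) *ᵥ (N.map (Int.cast : ℤ → R) *ᵥ z) := by
  have e : ∀ X : Matrix (Fin n) (Fin n) ℤ, X.map (Int.cast : ℤ → R) = X.map (Int.castRingHom R) := fun _ => rfl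
  rw [e, e, e, Matrix.map_mul, Matrix.mulVec_mulVec]

theorem fixed_mod {D : ChevalleyDatum} (C : Core D) {a : Fin D.rank → Fin D.rank → ℤ}
    (ha : ∀ j k, A D j (C.p k) = a j k) {m : ℕ} {z : Fin D.rank → ZMod m}
    (h : ∀ i, (srefMat a i).map (Int.cast : ℤ → ZMod m) *ᵥ z = z) {σ : Equiv.Perm (Rt D)} (hσ : σ ∈ C.WG) :
    (mat C σ).map (Int.cast : ℤ → ZMod m) *ᵥ z = z := by
  obtain ⟨L, rfl⟩ := C.mem_WG_iff.1 hσ
  induction L with
  | nil => rw [C.pprod_nil, mat_one, Matrix.map_one _ Int.cast_zero Int.cast_one, Matrix.one_mulVec]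
  | cons i L ih =>
    have e : mat C (C.sref i) = srefMat a i := by
      rw [mat_sref]
      exact congrArg (fun b : Fin D.rank → Fin D.rank → ℤ => srefMat b i)
        (funext fun j => funext fun k => ha j k)
    rw [C.pprod_cons, mat_mul C (Subgroup.subset_closure ⟨i, rfl⟩), e, map_cast_mulVec, ih (C.pprod_mem_WG L), h i]

/-- No cyclotomic polynomial with value prime to p at 1 annihilates an element fixing a vector modulo p. -/
theorem not_killed {l : ℕ} {M : Matrix (Fin l) (Fin l) ℤ} {R : Type*} [CommRing R] {z : Fin l → R}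
    (hz : M.map (Int.cast : ℤ → R) *ᵥ z = z) {p : ℤ[X]} (hp : ((p.eval 1 : ℤ) : R) • z ≠ 0) : aeval M p ≠ 0 :=
  fun h => hp (by rw [← aeval_fixed hz p, h, Matrix.map_zero _ Int.cast_zero, Matrix.zero_mulVec])

theorem cyclotomic_four : cyclotomic 4 ℤ = X ^ 2 + 1 := by
  have := cyclotomic_prime_pow_eq_geom_sum (R := ℤ) (p := 2) (n := 1) Nat.prime_two
  simpa [Finset.sum_range_succ, add_comm] using this

theorem eval_one_four : (cyclotomic 4 ℤ).eval 1 = 2 := by simp [cyclotomic_four]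
theorem eval_one_three : (cyclotomic 3 ℤ).eval 1 = 3 := by norm_num [cyclotomic_three]
theorem eval_one_six : (cyclotomic 6 ℤ).eval 1 = 1 := by
  simp [cyclotomic_six]

variable {r : ℕ} [Fact r.Prime]

namespace D4

/-- the core -/
noncomputable abbrev C4 : Core chevD4 := Cert.D4.core

/-- the Cartan integers -/
def a (j k : Fin chevD4.rank) : ℤ := Data.D4.fast.a j (Data.D4.fast.p k)

theorem a_eq (j k : Fin chevD4.rank) : A chevD4 j (C4.p k) = a j k := by
  rw [Cert.D4.certified.A_val, show (C4.p k).val = Data.D4.fast.p k from Cert.D4.certified.p_val k]; rfl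

/-- the vector fixed modulo 2 -/
def z (i : Fin chevD4.rank) : ZMod 2 := ([1, 0, 0, 1] : List (ZMod 2)).getD i.val 0

theorem z_fixed : ∀ i, (srefMat a i).map (Int.cast : ℤ → ZMod 2) *ᵥ z = z := by decide +kernel

theorem bound {σ : Equiv.Perm (Rt chevD4)} (hσ : σ ∈ C4.WG) {e : ℕ} (he : 0 < e) (hM : mat C4 σ ^ e = 1)
    (hre : ¬ r ∣ e) {q : ZMod r} {d : ℕ} (hd : orderOf q = d) (hd' : d = 3 ∨ d = 6) :
    Module.finrank (ZMod r) (eig (mat C4 σ) q) ≤ 1 := by
  obtain ⟨k, h, hχ, hmon, -, hdeg, hb, hk⟩ := charpoly_split he hM hre hd (by omega)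
  by_contra hne
  have hne' : eig (mat C4 σ) q ≠ ⊥ := fun h0 => by rw [h0, finrank_bot] at hne; omega
  have hφ : d.totient = 2 := by rcases hd' with rfl | rfl <;> decide
  have hl : chevD4.rank = 4 := rfl
  have h1 : h = 1 := eq_one_of_monic_natDegree_zero hmon (by rw [hφ, hl] at hdeg; omega)
  have h2 := hk hne'
  rw [h1, mul_one] at h2
  refine not_killed (fixed_mod C4 a_eq z_fixed hσ) ?_ h2
  rcases hd' with rfl | rfl
  · rw [eval_one_three]; decide +kernel
  · rw [eval_one_six]; decide +kernel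

end D4

namespace E6

/-- the core -/
noncomputable abbrev C6 : Core chevE6 := Cert.E6.core

/-- the Cartan integers -/
def a (j k : Fin chevE6.rank) : ℤ := Data.E6.fast.a j (Data.E6.fast.p k)

theorem a_eq (j k : Fin chevE6.rank) : A chevE6 j (C6.p k) = a j k := by
  rw [Cert.E6.certified.A_val, show (C6.p k).val = Data.E6.fast.p k from Cert.E6.certified.p_val k]; rfl

/-- the form -/
def B : Matrix (Fin chevE6.rank) (Fin chevE6.rank) ℤ := Matrix.of a

theorem refl_inv : ∀ i, (srefMat a i)ᵀ * B * srefMat a i = B := by decide +kernel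
theorem B_symm : Bᵀ = B := by decide +kernel

/-- a matrix from rows -/
def matE (X : List (List ℤ)) : Matrix (Fin chevE6.rank) (Fin chevE6.rank) ℤ :=
  Matrix.of fun i j => (X.getD i.val []).getD j.val 0

/-- three times the inverse -/
def B' : Matrix (Fin chevE6.rank) (Fin chevE6.rank) ℤ :=
  matE [[4, 3, 5, 6, 4, 2], [3, 6, 6, 9, 6, 3], [5, 6, 10, 12, 8, 4], [6, 9, 12, 18, 12, 6], [4, 6, 8, 12, 10, 5],
    [2, 3, 4, 6, 5, 4]]

theorem B'_mul : B' * B = (3 : ℤ) • 1 := by decide +kernel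

/-- the triangular matrix of a decomposition into squares -/
def U : Matrix (Fin chevE6.rank) (Fin chevE6.rank) ℤ :=
  matE [[2, 0, -1, 0, 0, 0], [0, 2, 0, -1, 0, 0], [0, 0, 3, -2, 0, 0], [0, 0, 0, 5, -6, 0], [0, 0, 0, 0, 4, -5],
    [0, 0, 0, 0, 0, 1]]

/-- the coefficients of the squares -/
def L (i : Fin chevE6.rank) : ℤ := ([30, 30, 10, 2, 3, 45] : List ℤ).getD i.val 0

theorem L_pos : ∀ i, 0 < L i := by decide +kernel
theorem squares : Uᵀ * Matrix.diagonal L * U = (60 : ℤ) • B := by decide +kernel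
theorem even : ∀ x : Fin chevE6.rank → ZMod 2, x ⬝ᵥ B.map (Int.cast : ℤ → ZMod 2) *ᵥ x = 0 := by decide +kernel

/-- the vector fixed modulo 3 -/
def zI (i : Fin chevE6.rank) : ℤ := ([1, 0, -1, 0, 1, -1] : List ℤ).getD i.val 0

/-- the same modulo 3 -/
def z (i : Fin chevE6.rank) : ZMod 3 := (zI i : ZMod 3)

theorem z_fixed : ∀ i, (srefMat a i).map (Int.cast : ℤ → ZMod 3) *ᵥ z = z := by decide +kernel
theorem zI_norm : bil B zI zI = 12 := by decide +kernel
theorem zI_radical : ∀ i, (3 : ℤ) ∣ (B *ᵥ zI) i := by decide +kernel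

theorem no_line {M : Matrix (Fin chevE6.rank) (Fin chevE6.rank) ℤ} (hB : Mᵀ * B * M = B)
    (hz : M.map (Int.cast : ℤ → ZMod 3) *ᵥ z = z) {k : ℕ} (hχ : M.charpoly = cyclotomic 2 ℤ ^ k * (X - C 1))
    (hann : ∀ x, M *ᵥ (M *ᵥ x + x) = M *ᵥ x + x) : False := by
  have hzI : (fun i => (((M *ᵥ zI + zI) i : ℤ) : ZMod 3)) = (2 : ZMod 3) • z := by
    funext i
    have h1 : (((M *ᵥ zI) i : ℤ) : ZMod 3) = (M.map (Int.cast : ℤ → ZMod 3) *ᵥ z) i :=
      (Int.castRingHom (ZMod 3)).map_mulVec _ _ i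
    rw [Pi.add_apply, Int.cast_add, h1, hz, Pi.smul_apply, smul_eq_mul, two_mul]
    rfl
  have hz0 : (2 : ZMod 3) • z ≠ 0 := by decide +kernel
  have hy0 : M *ᵥ zI + zI ≠ 0 := fun h0 => hz0 (by rw [← hzI, h0]; funext i; simp)
  obtain ⟨u, hu, hu1, hgen⟩ := exists_gen hχ (by simp [cyclotomic_two]) (ε := 1) (by rw [one_smul]; exact hann zI) hy0
  rw [one_smul] at hu
  have hgen' : ∀ x, ∃ f : ℤ, M *ᵥ x + x = f • u := fun x => hgen _ (by rw [one_smul]; exact hann x)
  have hu0 : u ≠ 0 := fun h => by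
    obtain ⟨f, hf⟩ := hgen' zI
    exact hy0 (by rw [hf, h, smul_zero])
  set n := bil B u u with hn
  have hkey : ∀ x f, M *ᵥ x + x = f • u → f * n = 2 * bil B x u := by
    intro x f hf
    have := congrArg (fun y => bil B y u) hf
    simp only [bil_add_left, bil_smul_left] at this
    have e : bil B (M *ᵥ x) u = bil B x u := by
      calc bil B (M *ᵥ x) u = bil B (M *ᵥ x) (M *ᵥ u) := by rw [hu]
        _ = _ := bil_mulVec B hB _ _
    rw [← this, two_mul, e]
  have hpos : 0 < n := bil_pos B (by norm_num) (by norm_num) B'_mul L_pos squares hu0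
  have hdiv : n ∣ 6 := by
    refine dvd_two_mul B B'_mul hu1 fun i => ?_
    obtain ⟨f, hf⟩ := hgen' (Pi.single i 1)
    exact ⟨f, by rw [mul_comm n, hkey _ _ hf, bil_single]⟩
  obtain ⟨f, hf⟩ := hgen' zI
  have hfz : (2 : ZMod 3) • z = (f : ZMod 3) • fun i => (u i : ZMod 3) := by
    rw [← hzI, hf]; funext i; simp
  have hf0 : (f : ZMod 3) ≠ 0 := fun h0 => hz0 (by rw [hfz, h0, zero_smul])
  obtain ⟨c, hc⟩ : ∃ c : ℤ, (f : ZMod 3) * (c : ZMod 3) = 2 ∧ (c = 1 ∨ c = -1) := by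
    have hall : ∀ x : ZMod 3, x ≠ 0 → x * ((1 : ℤ) : ZMod 3) = 2 ∨ x * ((-1 : ℤ) : ZMod 3) = 2 := by decide
    rcases hall _ hf0 with h | h
    · exact ⟨1, h, Or.inl rfl⟩
    · exact ⟨-1, h, Or.inr rfl⟩
  have hs : ∀ i, (3 : ℤ) ∣ u i - c * zI i := by
    intro i
    refine (ZMod.intCast_zmod_eq_zero_iff_dvd _ 3).1 (mul_left_cancel₀ hf0 ?_)
    have := congrFun hfz i
    simp only [Pi.smul_apply, smul_eq_mul, z] at this
    rw [Int.cast_sub, Int.cast_mul, mul_sub, ← this, ← mul_assoc, hc.1, mul_zero, sub_self]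
  choose s hs using hs
  have hu' : u = c • zI + (3 : ℤ) • s := funext fun i => by
    rw [Pi.add_apply, Pi.smul_apply, Pi.smul_apply, smul_eq_mul, smul_eq_mul, ← hs i]; ring
  obtain ⟨b, hb⟩ : (3 : ℤ) ∣ bil B s zI := by
    rw [bil, dotProduct]; exact Finset.dvd_sum fun i _ => Dvd.dvd.mul_left (zI_radical i) _
  obtain ⟨t, ht⟩ : (2 : ℤ) ∣ bil B s s := by
    refine (ZMod.intCast_zmod_eq_zero_iff_dvd _ 2).1 ?_
    rw [bil_cast]; exact even _
  have hn' : n = 12 + 18 * (c * b + t) := by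
    rw [hn, hu']
    simp only [bil_add_left, bil_add_right, bil_smul_left, bil_smul_right, bil_comm B B_symm zI s, hb, ht, zI_norm]
    rcases hc.2 with rfl | rfl <;> ring
  have := Int.le_of_dvd (by norm_num) hdiv
  interval_cases n <;> omega

theorem bound {σ : Equiv.Perm (Rt chevE6)} (hσ : σ ∈ C6.WG) {e : ℕ} (he : 0 < e) (hM : mat C6 σ ^ e = 1)
    (hre : ¬ r ∣ e) {q : ZMod r} {d : ℕ} (hd : orderOf q = d) :
    (d = 2 → Module.finrank (ZMod r) (eig (mat C6 σ) q) ≤ 4) ∧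
    (d = 4 ∨ d = 6 → Module.finrank (ZMod r) (eig (mat C6 σ) q) ≤ 2) := by
  have hl : chevE6.rank = 6 := rfl
  have hz := fixed_mod C6 a_eq z_fixed hσ
  constructor
  · intro hd2
    subst hd2
    obtain ⟨k, h, hχ, hmon, hnd, hdeg, hb, hk⟩ := charpoly_split he hM hre hd (by omega)
    by_contra hne
    have hne' : eig (mat C6 σ) q ≠ ⊥ := fun h0 => by rw [h0, finrank_bot] at hne; omega
    rw [show Nat.totient 2 = 1 from by decide, hl] at hdeg
    have h2 := hk hne'
    rcases (by omega : h.natDegree = 0 ∨ h.natDegree = 1) with hd0 | hd1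
    · rw [eq_one_of_monic_natDegree_zero hmon hd0, mul_one] at h2
      refine not_killed hz ?_ h2
      rw [cyclotomic_two, eval_add, eval_X, eval_one]
      decide +kernel
    · obtain ⟨ε, rfl⟩ : ∃ ε, h = X - C ε := ⟨- h.coeff 0, by rw [map_neg, sub_neg_eq_add]; exact hmon.eq_X_add_C hd1⟩
      rcases eps_sq he hM (ε := ε) (by rw [hχ, eval_mul, eval_sub, eval_X, eval_C, sub_self, mul_zero]) with rfl | rfl
      · refine no_line (mat_invariant C6 B a_eq refl_inv hσ) hz hχ fun x => ?_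
        have h3 := congrArg (fun A => A *ᵥ x) h2
        simp only [cyclotomic_two, map_mul, map_add, map_sub, aeval_X, map_one, Matrix.zero_mulVec, add_mul, one_mul,
          mul_sub, mul_one, Matrix.add_mulVec, Matrix.sub_mulVec, Matrix.one_mulVec, ← Matrix.mulVec_mulVec] at h3
        rw [Matrix.mulVec_add]
        refine sub_eq_zero.1 ?_
        rw [← h3]
      · exact hnd (by rw [cyclotomic_two, map_neg, map_one, sub_neg_eq_add])
  · intro hd'
    obtain ⟨k, h, hχ, hmon, -, hdeg, hb, hk⟩ := charpoly_split he hM hre hd (by omega)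
    by_contra hne
    have hne' : eig (mat C6 σ) q ≠ ⊥ := fun h0 => by rw [h0, finrank_bot] at hne; omega
    have hφ : d.totient = 2 := by rcases hd' with rfl | rfl <;> decide
    rw [hφ, hl] at hdeg
    have h2 := hk hne'
    rw [eq_one_of_monic_natDegree_zero hmon (by omega), mul_one] at h2
    refine not_killed hz ?_ h2
    rcases hd' with rfl | rfl
    · rw [eval_one_four]; decide +kernel
    · rw [eval_one_six]; decide +kernel

end E6

namespace E7

/-- the core -/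
noncomputable abbrev C7 : Core chevE7 := Cert.E7.core

/-- the Cartan integers -/
def a (j k : Fin chevE7.rank) : ℤ := Data.E7.fast.a j (Data.E7.fast.p k)

theorem a_eq (j k : Fin chevE7.rank) : A chevE7 j (C7.p k) = a j k := by
  rw [Cert.E7.certified.A_val, show (C7.p k).val = Data.E7.fast.p k from Cert.E7.certified.p_val k]; rfl

/-- the form -/
def B : Matrix (Fin chevE7.rank) (Fin chevE7.rank) ℤ := Matrix.of a

theorem refl_inv : ∀ i, (srefMat a i)ᵀ * B * srefMat a i = B := by decide +kernel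
theorem B_symm : Bᵀ = B := by decide +kernel

/-- a matrix from rows -/
def matE (X : List (List ℤ)) : Matrix (Fin chevE7.rank) (Fin chevE7.rank) ℤ :=
  Matrix.of fun i j => (X.getD i.val []).getD j.val 0

/-- twice the inverse -/
def B' : Matrix (Fin chevE7.rank) (Fin chevE7.rank) ℤ :=
  matE [[4, 4, 6, 8, 6, 4, 2], [4, 7, 8, 12, 9, 6, 3], [6, 8, 12, 16, 12, 8, 4], [8, 12, 16, 24, 18, 12, 6],
    [6, 9, 12, 18, 15, 10, 5], [4, 6, 8, 12, 10, 8, 4], [2, 3, 4, 6, 5, 4, 3]]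

theorem B'_mul : B' * B = (2 : ℤ) • 1 := by decide +kernel

/-- the triangular matrix of a decomposition into squares -/
def U : Matrix (Fin chevE7.rank) (Fin chevE7.rank) ℤ :=
  matE [[2, 0, -1, 0, 0, 0, 0], [0, 2, 0, -1, 0, 0, 0], [0, 0, 3, -2, 0, 0, 0], [0, 0, 0, 5, -6, 0, 0],
    [0, 0, 0, 0, 4, -5, 0], [0, 0, 0, 0, 0, 3, -4], [0, 0, 0, 0, 0, 0, 1]]

/-- the coefficients of the squares -/
def L (i : Fin chevE7.rank) : ℤ := ([30, 30, 10, 2, 3, 5, 40] : List ℤ).getD i.val 0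

theorem L_pos : ∀ i, 0 < L i := by decide +kernel
theorem squares : Uᵀ * Matrix.diagonal L * U = (60 : ℤ) • B := by decide +kernel
theorem even : ∀ x : Fin chevE7.rank → ZMod 2, x ⬝ᵥ B.map (Int.cast : ℤ → ZMod 2) *ᵥ x = 0 := by decide +kernel

/-- the radical modulo 2 -/
def zI (i : Fin chevE7.rank) : ℤ := ([0, 1, 0, 0, 1, 0, 1] : List ℤ).getD i.val 0

theorem zI_norm : bil B zI zI = 6 := by decide +kernel
theorem zI_radical : ∀ i, (2 : ℤ) ∣ (B *ᵥ zI) i := by decide +kernel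
theorem radical : ∀ x : Fin chevE7.rank → ZMod 2, B.map (Int.cast : ℤ → ZMod 2) *ᵥ x = 0 →
    x = 0 ∨ x = fun i => (zI i : ZMod 2) := by decide +kernel

theorem no_line {M : Matrix (Fin chevE7.rank) (Fin chevE7.rank) ℤ} (hB : Mᵀ * B * M = B) {k : ℕ} {ε : ℤ}
    (hε : ε = 1 ∨ ε = -1) (hχ : M.charpoly = cyclotomic 4 ℤ ^ k * (X - C ε))
    (hne : aeval M (cyclotomic 4 ℤ) ≠ 0)
    (hann : ∀ x, M *ᵥ (M *ᵥ (M *ᵥ x) + x) = ε • (M *ᵥ (M *ᵥ x) + x)) : False := by
  obtain ⟨x0, hx0⟩ : ∃ x0, M *ᵥ (M *ᵥ x0) + x0 ≠ 0 := by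
    by_contra h
    push Not at h
    refine hne (Matrix.toLin'.injective (LinearMap.ext fun x => ?_))
    rw [cyclotomic_four, map_zero, LinearMap.zero_apply, Matrix.toLin'_apply, map_add, map_pow, aeval_X, map_one, pow_two,
      Matrix.add_mulVec, Matrix.one_mulVec, ← Matrix.mulVec_mulVec, h]
  obtain ⟨u, hu, hu1, hgen⟩ := exists_gen hχ (by rcases hε with rfl | rfl <;> simp [cyclotomic_four]) (hann x0) hx0
  have hgen' : ∀ x, ∃ f : ℤ, M *ᵥ (M *ᵥ x) + x = f • u := fun x => hgen _ (hann x)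
  have hu0 : u ≠ 0 := fun h => by
    obtain ⟨f, hf⟩ := hgen' x0
    exact hx0 (by rw [hf, h, smul_zero])
  set n := bil B u u with hn
  have hεε : ε * ε = 1 := by rcases hε with rfl | rfl <;> rfl
  have huu : M *ᵥ (M *ᵥ u) = u := by rw [hu, Matrix.mulVec_smul, hu, smul_smul, hεε, one_smul]
  have hadj : ∀ x, bil B (M *ᵥ x) u = ε * bil B x u := by
    intro x
    calc bil B (M *ᵥ x) u = ε * bil B (M *ᵥ x) (M *ᵥ u) := by
          rw [hu, bil_smul_right, ← mul_assoc, hεε, one_mul]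
      _ = _ := by rw [bil_mulVec B hB]
  have hkey : ∀ x f, M *ᵥ (M *ᵥ x) + x = f • u → f * n = 2 * bil B x u := by
    intro x f hf
    have := congrArg (fun y => bil B y u) hf
    simp only [bil_add_left, bil_smul_left, hadj, ← mul_assoc, hεε, one_mul] at this
    rw [← this, two_mul]
  have heven : ∀ x, (2 : ℤ) ∣ bil B x x := fun x =>
    (ZMod.intCast_zmod_eq_zero_iff_dvd _ 2).1 (by rw [bil_cast]; exact even _)
  have hpar : ∀ x f, M *ᵥ (M *ᵥ x) + x = f • u → (2 : ℤ) ∣ f * bil B x u := by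
    intro x f hf
    have hy : M *ᵥ (M *ᵥ x) = f • u - x := eq_sub_of_add_eq hf
    obtain ⟨t, ht⟩ := heven (M *ᵥ x - x)
    obtain ⟨s, hs⟩ := heven x
    have e1 : bil B (M *ᵥ (M *ᵥ x - x)) (M *ᵥ x - x) = bil B (f • u - x - M *ᵥ x) (M *ᵥ x - x) := by
      rw [Matrix.mulVec_sub, hy]
    have e2 : bil B (M *ᵥ (M *ᵥ x)) (M *ᵥ x) = bil B (M *ᵥ x) x := bil_mulVec B hB _ _
    have e3 : bil B (M *ᵥ x) (M *ᵥ x) = bil B x x := bil_mulVec B hB _ _
    have e4 : bil B u (M *ᵥ x) = ε * bil B x u := by rw [bil_comm B B_symm, hadj]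
    have e5 : bil B u x = bil B x u := bil_comm B B_symm _ _
    have e6 : bil B x (M *ᵥ x) = bil B (M *ᵥ x) x := bil_comm B B_symm _ _
    rw [Matrix.mulVec_sub] at e1
    simp only [bil_sub_left, bil_sub_right, e2, e3, e6] at e1 ht
    simp only [hy, bil_sub_left, bil_smul_left, e4, e5] at e1
    obtain ⟨j, hj⟩ : ∃ j, ε = 1 + 2 * j := by
      rcases hε with rfl | rfl
      · exact ⟨0, rfl⟩
      · exact ⟨-1, rfl⟩
    refine ⟨bil B (M *ᵥ x) x - f * j * bil B x u, ?_⟩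
    rw [hj] at e1
    linarith
  have hpos : 0 < n := bil_pos B (by norm_num) (by norm_num) B'_mul L_pos squares hu0
  obtain ⟨m, hm⟩ := heven u
  have hBu : ∀ i, (2 : ℤ) ∣ (B *ᵥ u) i := by
    intro i
    obtain ⟨f, hf⟩ := hgen' (Pi.single i 1)
    have h1 := hkey _ _ hf
    obtain ⟨t, ht⟩ := hpar _ _ hf
    rw [bil_single] at h1 ht
    have h2 : (B *ᵥ u) i * (B *ᵥ u) i = n * t := mul_left_cancel₀ (two_ne_zero (α := ℤ))
      (by linear_combination n * ht - (B *ᵥ u) i * h1)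
    exact (Int.prime_two.dvd_mul.1 ⟨m * t, by rw [h2, hn, hm]; ring⟩).elim id id
  have hdiv : n ∣ 4 := by
    refine dvd_two_mul B B'_mul hu1 fun i => ?_
    obtain ⟨f, hf⟩ := hgen' (Pi.single i 1)
    exact ⟨f, by rw [mul_comm n, hkey _ _ hf, bil_single]⟩
  have hrad : (fun i => (u i : ZMod 2)) = fun i => (zI i : ZMod 2) := by
    refine (radical _ (funext fun i => ?_)).resolve_left fun h0 => ?_
    · rw [Pi.zero_apply, show (B.map (Int.cast : ℤ → ZMod 2) *ᵥ fun i => (u i : ZMod 2)) i = ((B *ᵥ u) i : ZMod 2) from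
        ((Int.castRingHom (ZMod 2)).map_mulVec B u i).symm]
      exact (ZMod.intCast_zmod_eq_zero_iff_dvd _ 2).2 (hBu i)
    · have : (2 : ℤ) ∣ 1 := hu1 ▸ Finset.dvd_gcd fun i _ => (ZMod.intCast_zmod_eq_zero_iff_dvd _ 2).1 (congrFun h0 i)
      norm_num at this
  have hs : ∀ i, (2 : ℤ) ∣ u i - zI i := fun i => by
    refine (ZMod.intCast_zmod_eq_zero_iff_dvd _ 2).1 ?_
    rw [Int.cast_sub, congrFun hrad i, sub_self]
  choose s hs using hs
  have hu' : u = zI + (2 : ℤ) • s := funext fun i => by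
    rw [Pi.add_apply, Pi.smul_apply, smul_eq_mul, ← hs i]; ring
  obtain ⟨b, hb⟩ : (2 : ℤ) ∣ bil B s zI := by
    rw [bil, dotProduct]; exact Finset.dvd_sum fun i _ => Dvd.dvd.mul_left (zI_radical i) _
  obtain ⟨t, ht⟩ := heven s
  have hn' : n = 6 + 8 * (b + t) := by
    rw [hn, hu']
    simp only [bil_add_left, bil_add_right, bil_smul_left, bil_smul_right, bil_comm B B_symm zI s, hb, ht, zI_norm]
    ring
  have := Int.le_of_dvd (by norm_num) hdiv
  interval_cases n <;> omega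

theorem bound {σ : Equiv.Perm (Rt chevE7)} (hσ : σ ∈ C7.WG) {e : ℕ} (he : 0 < e) (hM : mat C7 σ ^ e = 1)
    (hre : ¬ r ∣ e) {q : ZMod r} (hd : orderOf q = 4) :
    Module.finrank (ZMod r) (eig (mat C7 σ) q) ≤ 2 := by
  obtain ⟨k, h, hχ, hmon, -, hdeg, hb, hk⟩ := charpoly_split he hM hre hd (by omega)
  by_contra hne
  have hne' : eig (mat C7 σ) q ≠ ⊥ := fun h0 => by rw [h0, finrank_bot] at hne; omega
  rw [show Nat.totient 4 = 2 from by decide, show chevE7.rank = 7 from rfl] at hdeg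
  have hk3 : k = 3 := by omega
  subst hk3
  obtain ⟨ε, rfl⟩ : ∃ ε, h = X - C ε :=
    ⟨- h.coeff 0, by rw [map_neg, sub_neg_eq_add]; exact hmon.eq_X_add_C (by omega)⟩
  have hε := eps_sq he hM (ε := ε) (by rw [hχ, eval_mul, eval_sub, eval_X, eval_C, sub_self, mul_zero])
  have hB := mat_invariant C7 B a_eq refl_inv hσ
  refine no_line hB hε hχ ?_ fun x => ?_
  · intro h0
    -- an orthogonal map of odd rank does not square to -1
    rw [cyclotomic_four, map_add, map_pow, aeval_X, map_one, add_eq_zero_iff_eq_neg] at h0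
    have h1 := congrArg Matrix.det h0
    have ho : Odd chevE7.rank := ⟨3, rfl⟩
    rw [Matrix.det_pow, Matrix.det_neg, Fintype.card_fin, Matrix.det_one, ho.neg_one_pow, mul_one] at h1
    have h3 := sq_nonneg (mat C7 σ).det
    omega
  · have h2 := congrArg (fun A => A *ᵥ x) (hk hne')
    simp only [cyclotomic_four, map_mul, map_add, map_sub, aeval_X, map_intCast, eq_intCast,
      Matrix.zero_mulVec, add_mul, one_mul, mul_sub, pow_two, Matrix.add_mulVec, Matrix.sub_mulVec,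
      ← Matrix.mulVec_mulVec, Matrix.intCast_mulVec, Matrix.mulVec_smul] at h2
    rw [Matrix.mulVec_add, smul_add]
    refine sub_eq_zero.1 ?_
    rw [← h2]; abel

end E7

end

end Cfsg.Agent.Lib.ChevStructure.SylowHom
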