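import Cfsg.Agent.Lib.ChevStructure.Poincare

/-! The order of the Weyl group from the checked coset representatives. -/

set_option autoImplicit false

namespace Cfsg.Agent.Lib.ChevStructure.SylowHom

open Cfsg.Lie

open scoped Classical in
theorem card_WG {F : Fast} {D : ChevalleyDatum} (H : Fast.Certified F D) {R : List (List (List ℕ))}
    {T : List (List (List (ℕ × List ℕ)))}
    (hlev : allLt F.l (fun k => F.levelOK k (R.getD k []) (T.getD k [])) = true) :
    Nat.card H.core.WG = ∏ k ∈ Finset.range D.rank, (R.getD k []).length := by
  rw [allLt_iff] at hlev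
  have hl : F.l = D.rank := H.hl.symm
  have h := H.core.sum_WJ (fun k => (R.getD k []).map (toFinL D.rank)) D.rank
    (fun k hk => H.level (hlev k (hl.symm ▸ hk))) 1
  simp only [one_pow, Finset.sum_const, Finset.card_univ, smul_eq_mul, mul_one, List.map_map, Function.comp_def,
    List.map_const', List.sum_replicate] at h
  rw [← H.core.WJ_rank, Nat.card_eq_fintype_card]
  exact h

end Cfsg.Agent.Lib.ChevStructure.SylowHom
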