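import Cfsg.Agent.Lib.ChevStructure.SylowHom.Main
import Cfsg.Agent.Lib.ChevStructure.SylowHom.Special
import Cfsg.Agent.Lib.ChevStructure.SylowHom.WeylCard
import Cfsg.Agent.Lib.ChevStructure.Order.CertG2
import Cfsg.Agent.Lib.ChevStructure.Order.CertB2
import Cfsg.Agent.Lib.ChevStructure.Order.CertD4
import Cfsg.Agent.Lib.ChevStructure.Order.CertF4
import Cfsg.Agent.Lib.ChevStructure.Order.CertE6
import Cfsg.Agent.Lib.ChevStructure.Order.CertE7
import Cfsg.Agent.Lib.ChevStructure.Order.CertE8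
import Cfsg.Agent.Lib.ChevFixed.Data
import Cfsg.Agent.Lib.CurtisRichen.Data

/-! The seven types. -/

set_option autoImplicit false
set_option maxRecDepth 100000

namespace Cfsg.Agent.Lib.ChevStructure.SylowHom

open Cfsg.Lie Cfsg.Agent.Lib.ChevStructure.RegTorus Polynomial

variable {D : ChevalleyDatum}

/-- The bound on eigenspaces from the degree of the cyclotomic polynomial, with a list of exceptions. -/
theorem bound_of_table (C : Core D) {r q : ℕ} [Fact r.Prime] (hrq : ¬ r ∣ q) (hW : ¬ r ∣ Nat.card C.WG)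
    (degs : List ℕ) (exc : List ℕ) (hmem : ∃ e ∈ degs, orderOf (q : ZMod r) ∣ e) (hdeg30 : ∀ e ∈ degs, 0 < e ∧ e ≤ 30)
    (htab : ∀ d < 31, (0 < d ∧ (degs.any fun e => decide (d ∣ e)) = true ∧ d.totient ≤ D.rank) →
      D.rank / d.totient ≤ (degs.filter (fun e => d ∣ e)).length ∨ d ∈ exc)
    (hexc : ∀ σ ∈ C.WG, ∀ e, 0 < e → mat C σ ^ e = 1 → ¬ r ∣ e → ∀ d ∈ exc, orderOf (q : ZMod r) = d →
      Module.finrank (ZMod r) (eig (mat C σ) (q : ZMod r)) ≤ (degs.filter (fun e => d ∣ e)).length) :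
    ∀ σ ∈ C.WG, Module.finrank (ZMod r) (eig (mat C σ) (q : ZMod r)) ≤
      (degs.filter (fun e => orderOf (q : ZMod r) ∣ e)).length := by
  intro σ hσ
  set d := orderOf (q : ZMod r) with hd
  by_cases hb : eig (mat C σ) (q : ZMod r) = ⊥
  · rw [hb, finrank_bot]; exact Nat.zero_le _
  have hne : (q : ZMod r) ≠ 0 := fun h => hrq ((ZMod.natCast_eq_zero_iff q r).1 h)
  have hd0 : 0 < d := Nat.pos_of_dvd_of_pos (orderOf_dvd_of_pow_eq_one (ZMod.pow_card_sub_one_eq_one hne))
    (by have := (Fact.out : r.Prime).two_le; omega)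
  have he : orderOf σ ∣ Nat.card C.WG := by
    rw [← Subgroup.orderOf_mk σ hσ]; exact orderOf_dvd_natCard _
  have hM : mat C σ ^ orderOf σ = 1 := by rw [← mat_pow C hσ, pow_orderOf_eq_one, mat_one]
  have hre : ¬ r ∣ orderOf σ := fun h => hW (h.trans he)
  obtain ⟨k, h, -, -, -, hdeg, hk, -⟩ := charpoly_split (orderOf_pos σ) hM hre hd.symm hd0
  have hfin : 0 < Module.finrank (ZMod r) (eig (mat C σ) (q : ZMod r)) :=
    Nat.pos_of_ne_zero fun h0 => hb (Submodule.finrank_eq_zero.1 h0)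
  have hφ : d.totient ≤ D.rank := by
    have := Nat.le_mul_of_pos_left d.totient (show 0 < k by omega)
    omega
  have h30 : d < 31 := by
    obtain ⟨e, he1, he2⟩ := hmem
    obtain ⟨he3, he4⟩ := hdeg30 e he1
    have := Nat.le_of_dvd he3 he2
    omega
  rcases htab d h30 ⟨hd0, by simpa [List.any_eq_true] using hmem, hφ⟩ with h1 | h1
  · refine hk.trans (le_trans ?_ h1)
    rw [Nat.le_div_iff_mul_le (Nat.totient_pos.2 hd0)]
    omega
  · exact hexc σ hσ (orderOf σ) (orderOf_pos σ) hM hre d h1 rfl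

theorem not_dvd_gcd_prod {r q : ℕ} [Fact r.Prime] {n : ℕ} {L : List ℕ} (h : ∀ i : Fin n, ¬ r ∣ L.getD i.val 0) :
    ¬ r ∣ ∏ i : Fin n, Nat.gcd (q - 1) (L.getD i.val 0) := fun hd => by
  obtain ⟨i, -, hi⟩ := (Prime.dvd_finset_prod_iff (Fact.out : r.Prime).prime _).1 hd
  exact h i (hi.trans (Nat.gcd_dvd_right _ _))

theorem exists_degree {D : ChevalleyDatum} {F : Type*} [Field F] [Fintype F] {q r : ℕ} [Fact r.Prime]
    (hrq : ¬ r ∣ q) (hrG : r ∣ Nat.card ↥(D.group F)) {degs : List ℕ} {k N : ℕ}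
    (hcard : k * Nat.card (D.group F) = q ^ N * (degs.map fun e => q ^ e - 1).prod) :
    ∃ e ∈ degs, orderOf (q : ZMod r) ∣ e := by
  have hr : r.Prime := Fact.out
  have h1 : r ∣ (degs.map fun e => q ^ e - 1).prod :=
    (hr.dvd_mul.1 (hcard ▸ dvd_mul_of_dvd_right hrG k)).resolve_left fun h => hrq (hr.dvd_of_dvd_pow h)
  obtain ⟨x, hx, hrx⟩ := (Prime.dvd_prod_iff hr.prime).1 h1
  obtain ⟨e, he, rfl⟩ := List.mem_map.1 hx
  refine ⟨e, he, orderOf_dvd_of_pow_eq_one ?_⟩
  by_cases h0 : q ^ e = 0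
  · exact absurd (hr.dvd_of_dvd_pow (h0 ▸ dvd_zero r)) hrq
  · have := (ZMod.natCast_eq_zero_iff (q ^ e - 1) r).2 hrx
    rwa [Nat.cast_sub (Nat.pos_of_ne_zero h0), Nat.cast_pow, Nat.cast_one, sub_eq_zero] at this

theorem of_type {D : ChevalleyDatum} (C : Core D) (H : CommOK C) {d0 : ℕ} {B : List (List ℤ)}
    (hB : ChevFixed.InvCartan D d0 B) {degs : List ℕ} (hWc : Nat.card C.WG = degs.prod)
    (hdeg30 : ∀ e ∈ degs, 0 < e ∧ e ≤ 30) {L : List ℕ}
    (hL : ∀ i : Fin D.rank, L.getD i.val 0 ∣ degs.prod) (hd0 : d0 ∣ degs.prod) (exc : List ℕ)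
    (htab : ∀ d < 31, (0 < d ∧ (degs.any fun e => decide (d ∣ e)) = true ∧ d.totient ≤ D.rank) →
      D.rank / d.totient ≤ (degs.filter (fun e => d ∣ e)).length ∨ d ∈ exc)
    {F : Type*} [Field F] [Fintype F] {q : ℕ} (hq : Fintype.card F = q)
    {r : ℕ} [Fact r.Prime] (hrq : ¬ r ∣ q) (hrW : ¬ r ∣ degs.prod)
    (hcard : (∏ i : Fin D.rank, Nat.gcd (q - 1) (L.getD i.val 0)) * Nat.card (D.group F) =
      q ^ (D.nroots / 2) * (degs.map fun e => q ^ e - 1).prod)
    (hexc : ∀ σ ∈ C.WG, ∀ e, 0 < e → mat C σ ^ e = 1 → ¬ r ∣ e → ∀ d ∈ exc, orderOf (q : ZMod r) = d →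
      Module.finrank (ZMod r) (eig (mat C σ) (q : ZMod r)) ≤ (degs.filter (fun e => d ∣ e)).length)
    (hrG : r ∣ Nat.card ↥(D.group F)) (P : Sylow r ↥(D.group F)) :
    Nonempty (↥(P : Subgroup ↥(D.group F)) ≃*
      (Fin (degs.filter (fun e => orderOf (q : ZMod r) ∣ e)).length →
        Multiplicative (ZMod (r ^ padicValNat r ((cyclotomic (orderOf (q : ZMod r)) ℤ).eval (q : ℤ)).natAbs)))) :=
  sylow_homocyclic H hB hq hrq (fun h => hrW (h.trans hd0)) (hWc ▸ hrW) degs
    (fun e he => ⟨fun h => hrW (h.trans (List.dvd_prod he)), Nat.pos_of_ne_zero fun h0 => hrW (by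
      rw [List.prod_eq_zero (h0 ▸ he)]; exact dvd_zero r)⟩)
    ⟨_, not_dvd_gcd_prod fun i h => hrW (h.trans (hL i)), hcard⟩
    (bound_of_table C hrq (hWc ▸ hrW) degs exc (exists_degree hrq hrG hcard) hdeg30 htab hexc) P

theorem cardG2 : Nat.card Cert.G2.core.WG = ([2, 6] : List ℕ).prod :=
  (card_WG Cert.G2.certified Order.CertG2.levels).trans (by decide +kernel)
theorem cardB2 : Nat.card Cert.B2.core.WG = ([2, 4] : List ℕ).prod :=
  (card_WG Cert.B2.certified Order.CertB2.levels).trans (by decide +kernel)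
theorem cardD4 : Nat.card Cert.D4.core.WG = ([2, 4, 4, 6] : List ℕ).prod :=
  (card_WG Cert.D4.certified Order.CertD4.levels).trans (by decide +kernel)
theorem cardF4 : Nat.card Cert.F4.core.WG = ([2, 6, 8, 12] : List ℕ).prod :=
  (card_WG Cert.F4.certified Order.CertF4.levels).trans (by decide +kernel)
theorem cardE6 : Nat.card Cert.E6.core.WG = ([2, 5, 6, 8, 9, 12] : List ℕ).prod :=
  (card_WG Cert.E6.certified Order.CertE6.levels).trans (by decide +kernel)
theorem cardE7 : Nat.card Cert.E7.core.WG = ([2, 6, 8, 10, 12, 14, 18] : List ℕ).prod :=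
  (card_WG Cert.E7.certified Order.CertE7.levels).trans (by decide +kernel)
theorem cardE8 : Nat.card Cert.E8.core.WG = ([2, 8, 12, 14, 18, 20, 24, 30] : List ℕ).prod :=
  (card_WG Cert.E8.certified Order.CertE8.levels).trans (by decide +kernel)

theorem main {F : Type*} [Field F] [Fintype F] {q : ℕ} (hq : Fintype.card F = q)
    (c : ChevalleyDatum × List ℕ)
    (hc : c ∈ [(chevG2, [2, 6]), (chevB2, [2, 4]), (chevD4, [2, 4, 4, 6]), (chevF4, [2, 6, 8, 12]),
      (chevE6, [2, 5, 6, 8, 9, 12]), (chevE7, [2, 6, 8, 10, 12, 14, 18]), (chevE8, [2, 8, 12, 14, 18, 20, 24, 30])])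
    (r : ℕ) [Fact r.Prime] (hrq : ¬ r ∣ q) (hrW : ¬ r ∣ c.2.prod)
    (hrG : r ∣ Nat.card ↥(c.1.group F)) (P : Sylow r ↥(c.1.group F)) :
    Nonempty (↥(P : Subgroup ↥(c.1.group F)) ≃*
      (Fin (c.2.filter (fun e => orderOf (q : ZMod r) ∣ e)).length →
        Multiplicative (ZMod (r ^ padicValNat r ((cyclotomic (orderOf (q : ZMod r)) ℤ).eval (q : ℤ)).natAbs)))) := by
  simp only [List.mem_cons, List.not_mem_nil, or_false] at hc
  rcases hc with rfl | rfl | rfl | rfl | rfl | rfl | rfl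
  · exact of_type Cert.G2.core commOK_G2 ChevFixed.invCartan_G2 cardG2 (by decide +kernel)
      (L := Order.DataTorus.dG2) (by decide +kernel) (by decide +kernel) [] (by decide +kernel)
      hq hrq hrW (Order.CertG2.card_group hq) (fun _ _ _ _ _ _ d hd => absurd hd List.not_mem_nil) hrG P
  · exact of_type Cert.B2.core (Cert.B2.core.commOK_mild mildB2) ChevFixed.invCartan_B2 cardB2 (by decide +kernel)
      (L := Order.DataTorus.dB2) (by decide +kernel) (by decide +kernel) [] (by decide +kernel)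
      hq hrq hrW (Order.CertB2.card_group hq) (fun _ _ _ _ _ _ d hd => absurd hd List.not_mem_nil) hrG P
  · refine of_type Cert.D4.core (Cert.D4.core.commOK_mild mildD4) ChevFixed.invCartan_D4 cardD4 (by decide +kernel)
      (L := Order.DataTorus.dD4) (by decide +kernel) (by decide +kernel) [3, 6] (by decide +kernel)
      hq hrq hrW (Order.CertD4.card_group hq) (fun σ hσ e he hM hre d hd ho => ?_) hrG P
    simp only [List.mem_cons, List.not_mem_nil, or_false] at hd
    refine (D4.bound hσ he hM hre ho hd).trans ?_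
    rcases hd with rfl | rfl <;> decide
  · exact of_type Cert.F4.core (Cert.F4.core.commOK_mild mildF4) ChevFixed.invCartan_F4 cardF4 (by decide +kernel)
      (L := Order.DataTorus.dF4) (by decide +kernel) (by decide +kernel) [] (by decide +kernel)
      hq hrq hrW (Order.CertF4.card_group hq) (fun _ _ _ _ _ _ d hd => absurd hd List.not_mem_nil) hrG P
  · refine of_type Cert.E6.core (Cert.E6.core.commOK_mild mildE6) CurtisRichen.invCartan_E6 cardE6 (by decide +kernel)
      (L := Order.DataTorus.dE6) (by decide +kernel) (by decide +kernel) [2, 4, 6] (by decide +kernel)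
      hq hrq hrW (Order.CertE6.card_group hq) (fun σ hσ e he hM hre d hd ho => ?_) hrG P
    simp only [List.mem_cons, List.not_mem_nil, or_false] at hd
    rcases hd with rfl | rfl | rfl
    · exact ((E6.bound hσ he hM hre ho).1 rfl).trans (by decide)
    · exact ((E6.bound hσ he hM hre ho).2 (Or.inl rfl)).trans (by decide)
    · exact ((E6.bound hσ he hM hre ho).2 (Or.inr rfl)).trans (by decide)
  · refine of_type Cert.E7.core (Cert.E7.core.commOK_mild mildE7) ChevFixed.invCartan_E7 cardE7 (by decide +kernel)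
      (L := Order.DataTorus.dE7) (by decide +kernel) (by decide +kernel) [4] (by decide +kernel)
      hq hrq hrW (Order.CertE7.card_group hq) (fun σ hσ e he hM hre d hd ho => ?_) hrG P
    obtain rfl := List.mem_singleton.1 hd
    exact (E7.bound hσ he hM hre ho).trans (by decide)
  · exact of_type Cert.E8.core (Cert.E8.core.commOK_mild mildE8) ChevFixed.invCartan_E8 cardE8 (by decide +kernel)
      (L := Order.DataTorus.dE8) (by decide +kernel) (by decide +kernel) [] (by decide +kernel)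
      hq hrq hrW (Order.CertE8.card_group hq) (fun _ _ _ _ _ _ d hd => absurd hd List.not_mem_nil) hrG P

end Cfsg.Agent.Lib.ChevStructure.SylowHom
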