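import Cfsg.Agent.Lib.ChevStructure.RegTorus.Main
import Cfsg.Agent.Lib.ChevStructure.SylowHom.Eigen
import Cfsg.Agent.Lib.ChevStructure.SylowHom.Abelian

/-!
Sylow subgroups for a prime dividing neither q nor the order of the Weyl group: inside a split torus over
F_{q^d}, with the r-torsion in an eigenspace of a Weyl group element.
-/

set_option autoImplicit false
set_option linter.unusedSectionVars false

namespace Cfsg.Agent.Lib.ChevStructure.SylowHom

open Cfsg.Lie Polynomial Cfsg.Agent.Lib.ChevStructure.RegTorus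
open scoped MatrixGroups Matrix

/-- r-parts of q^e - 1. -/
theorem factorization_pow_sub_one {q r : ℕ} [Fact r.Prime] (hq : 2 ≤ q) (hrq : ¬ r ∣ q) {e : ℕ} (he : 0 < e)
    (hre : ¬ r ∣ e) : (q ^ e - 1).factorization r =
      if orderOf (q : ZMod r) ∣ e then (q ^ orderOf (q : ZMod r) - 1).factorization r else 0 := by
  set d := orderOf (q : ZMod r)
  have hne : (q : ZMod r) ≠ 0 := fun h => hrq ((ZMod.natCast_eq_zero_iff q r).1 h)
  have hiff : ∀ k : ℕ, r ∣ q ^ k - 1 ↔ d ∣ k := fun k => by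
    rw [← ZMod.natCast_eq_zero_iff, Nat.cast_sub (Nat.one_le_pow _ _ (by omega)), Nat.cast_pow, Nat.cast_one,
      sub_eq_zero, orderOf_dvd_iff_pow_eq_one]
  by_cases hd : d ∣ e
  · rw [if_pos hd]
    obtain ⟨j, rfl⟩ := hd
    have hj : ¬ r ∣ j := fun h => hre (h.trans (dvd_mul_left j d))
    have hj0 : 0 < j := Nat.pos_of_mul_pos_left he
    have hQ : 2 ≤ q ^ d := Nat.one_lt_pow (Nat.pos_of_mul_pos_right he).ne' (by omega)
    have h := (factorization_prod hQ ((hiff d).2 dvd_rfl) [j] (by simp [hj, hj0])).2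
    simpa [pow_mul] using h
  · rw [if_neg hd]
    exact Nat.factorization_eq_zero_of_not_dvd fun h => hd ((hiff e).1 h)

theorem factorization_prod_filter {q r : ℕ} [Fact r.Prime] (hq : 2 ≤ q) (hrq : ¬ r ∣ q) : ∀ L : List ℕ,
    (∀ e ∈ L, ¬ r ∣ e ∧ 0 < e) → (L.map fun e => q ^ e - 1).prod ≠ 0 ∧
      (L.map fun e => q ^ e - 1).prod.factorization r =
        (L.filter (fun e => orderOf (q : ZMod r) ∣ e)).length * (q ^ orderOf (q : ZMod r) - 1).factorization r
  | [], _ => by simp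
  | e :: L, h => by
    obtain ⟨ih0, ih⟩ := factorization_prod_filter hq hrq L fun a ha => h a (List.mem_cons_of_mem _ ha)
    obtain ⟨he, he0⟩ := h e List.mem_cons_self
    have hne : q ^ e - 1 ≠ 0 := Nat.sub_ne_zero_of_lt (Nat.one_lt_pow he0.ne' (by omega))
    refine ⟨by simpa [List.map_cons, List.prod_cons, hne] using ih0, ?_⟩
    rw [List.map_cons, List.prod_cons, Nat.factorization_mul hne ih0, Finsupp.add_apply, ih,
      factorization_pow_sub_one hq hrq he0 he, List.filter_cons]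
    by_cases hd : orderOf (q : ZMod r) ∣ e
    · simp [hd]; ring
    · simp [hd]

/-- The r-part of q^d - 1 is that of the cyclotomic value, and it is not trivial. -/
theorem padic_cyclotomic {q r : ℕ} [Fact r.Prime] (hq : 2 ≤ q) (hrq : ¬ r ∣ q) :
    padicValNat r ((cyclotomic (orderOf (q : ZMod r)) ℤ).eval (q : ℤ)).natAbs =
      (q ^ orderOf (q : ZMod r) - 1).factorization r ∧ 0 < (q ^ orderOf (q : ZMod r) - 1).factorization r := by
  have hr : r.Prime := Fact.out
  set d := orderOf (q : ZMod r) with hd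
  have hne : (q : ZMod r) ≠ 0 := fun h => hrq ((ZMod.natCast_eq_zero_iff q r).1 h)
  have h1 := ZMod.pow_card_sub_one_eq_one hne
  have hd0 : 0 < d := Nat.pos_of_dvd_of_pos (orderOf_dvd_of_pow_eq_one h1) (by have := hr.two_le; omega)
  have hdr : ¬ r ∣ d := fun h => by
    have := Nat.le_of_dvd (by have := hr.two_le; omega) (h.trans (orderOf_dvd_of_pow_eq_one h1))
    have := hr.two_le
    omega
  haveI : NeZero ((d : ℕ) : ZMod r) := ⟨fun h => hdr ((ZMod.natCast_eq_zero_iff d r).1 h)⟩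
  obtain ⟨R, hR⟩ : cyclotomic d ℤ ∣ X ^ d - 1 := cyclotomic.dvd_X_pow_sub_one d ℤ
  have hΦq : IsRoot (cyclotomic d (ZMod r)) (q : ZMod r) := isRoot_cyclotomic_iff.2 (IsPrimitiveRoot.orderOf _)
  have hRq : ¬ (r : ℤ) ∣ R.eval (q : ℤ) := by
    intro h0
    have hsep : (X ^ d - 1 : (ZMod r)[X]).Separable := by
      rw [← map_one C]
      exact separable_X_pow_sub_C (1 : ZMod r) (fun h => hdr ((ZMod.natCast_eq_zero_iff d r).1 h)) one_ne_zero
    have e1 := congrArg (Polynomial.map (Int.castRingHom (ZMod r))) hR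
    rw [Polynomial.map_mul, Polynomial.map_sub, Polynomial.map_pow, map_X, Polynomial.map_one, map_cyclotomic] at e1
    rw [e1] at hsep
    have h0' : IsRoot (R.map (Int.castRingHom (ZMod r))) (q : ZMod r) := by
      rw [IsRoot, eval_map, ← map_natCast (Int.castRingHom (ZMod r)) q, eval₂_at_apply, eq_intCast]
      exact (ZMod.intCast_zmod_eq_zero_iff_dvd _ r).2 h0
    exact not_isUnit_X_sub_C (q : ZMod r)
      (hsep.squarefree (X - C (q : ZMod r)) (mul_dvd_mul (dvd_iff_isRoot.2 hΦq) (dvd_iff_isRoot.2 h0')))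
  have h2 : (((q ^ d - 1 : ℕ) : ℤ)) = (cyclotomic d ℤ).eval (q : ℤ) * R.eval (q : ℤ) := by
    have := congrArg (eval (q : ℤ)) hR
    rw [Nat.cast_sub (Nat.one_le_pow _ _ (by omega)), Nat.cast_pow, Nat.cast_one]
    simpa using this
  have h3 := congrArg Int.natAbs h2
  rw [Int.natAbs_natCast, Int.natAbs_mul] at h3
  have hne0 : q ^ d - 1 ≠ 0 := Nat.sub_ne_zero_of_lt (Nat.one_lt_pow hd0.ne' (by omega))
  have hdvd : r ∣ q ^ d - 1 := by
    rw [← ZMod.natCast_eq_zero_iff, Nat.cast_sub (Nat.one_le_pow _ _ (by omega)), Nat.cast_pow, Nat.cast_one,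
      pow_orderOf_eq_one, sub_self]
  refine ⟨?_, hr.factorization_pos_of_dvd hne0 hdvd⟩
  rw [h3] at hne0
  rw [← Nat.factorization_def _ hr, h3, Nat.factorization_mul (left_ne_zero_of_mul hne0) (right_ne_zero_of_mul hne0),
    Finsupp.add_apply, Nat.factorization_eq_zero_of_not_dvd (fun h => hRq (Int.ofNat_dvd_left.2 h)), add_zero]

theorem sylow_homocyclic {D : ChevalleyDatum} {C : Core D} (H : CommOK C) {d0 : ℕ} {B : List (List ℤ)}
    (hB : ChevFixed.InvCartan D d0 B) {F : Type*} [Field F] [Fintype F] {q : ℕ} (hq : Fintype.card F = q)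
    {r : ℕ} [Fact r.Prime] (hrq : ¬ r ∣ q) (hd0 : ¬ r ∣ d0) (hW : ¬ r ∣ Nat.card C.WG)
    (degs : List ℕ) (hdegs : ∀ e ∈ degs, ¬ r ∣ e ∧ 0 < e)
    (hcard : ∃ k, ¬ r ∣ k ∧ k * Nat.card (D.group F) = q ^ (D.nroots / 2) * (degs.map fun e => q ^ e - 1).prod)
    (hbound : ∀ σ ∈ C.WG, Module.finrank (ZMod r) (eig (mat C σ) (q : ZMod r)) ≤
      (degs.filter (fun e => orderOf (q : ZMod r) ∣ e)).length)
    (P : Sylow r ↥(D.group F)) :
    Nonempty (↥(P : Subgroup ↥(D.group F)) ≃*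
      (Fin (degs.filter (fun e => orderOf (q : ZMod r) ∣ e)).length →
        Multiplicative (ZMod (r ^ padicValNat r ((cyclotomic (orderOf (q : ZMod r)) ℤ).eval (q : ℤ)).natAbs)))) := by
  classical
  have hrp : r.Prime := Fact.out
  have hq2 : 2 ≤ q := hq ▸ Fintype.one_lt_card
  obtain ⟨hv, hv0⟩ := padic_cyclotomic (r := r) hq2 hrq
  rw [hv]
  set d := orderOf (q : ZMod r) with hd
  set a := (degs.filter (fun e => d ∣ e)).length
  have hne : (q : ZMod r) ≠ 0 := fun h => hrq ((ZMod.natCast_eq_zero_iff q r).1 h)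
  have hdpos : 0 < d := Nat.pos_of_dvd_of_pos (orderOf_dvd_of_pow_eq_one (ZMod.pow_card_sub_one_eq_one hne))
    (by have := hrp.two_le; omega)
  haveI : NeZero d := ⟨hdpos.ne'⟩
  obtain ⟨p, hp⟩ := CharP.exists F
  haveI : Fact p.Prime := ⟨CharP.char_is_prime F p⟩
  let K := FiniteField.Extension F p d
  haveI : Finite K := Module.finite_of_finite F
  letI : Fintype K := Fintype.ofFinite K
  set Q := q ^ d with hQ
  have hK : Nat.card K = Q := by
    rw [FiniteField.natCard_extension, Nat.card_eq_fintype_card, hq]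
  have hQ2 : 2 ≤ Q := Nat.one_lt_pow hdpos.ne' (by omega)
  have hrQ : r ∣ Q - 1 := by
    rw [← ZMod.natCast_eq_zero_iff, Nat.cast_sub (by omega), Nat.cast_pow, pow_orderOf_eq_one,
      Nat.cast_one, sub_self]
  let f := algebraMap F K
  let σ : K →+* K := (FiniteField.Extension.frob F p d).toAlgHom.toRingHom
  have hσ : ∀ x : K, σ x = x ^ q := fun x => by
    rw [← hq, ← Nat.card_eq_fintype_card]; exact FiniteField.Extension.frob_apply F p d
  have hσf : ∀ a : F, σ (f a) = f a := fun a => AlgEquiv.commutes _ a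
  -- a Sylow subgroup inside the torus
  set G := D.group K with hG
  let T := D.diagonalSubgroup K
  let PT : Sylow r ↥T := default
  let SS : Subgroup (GL D.Idx K) := (PT : Subgroup ↥T).map T.subtype
  have hSST : SS ≤ T := Subgroup.map_subtype_le _
  have hSSG : SS ≤ G := hSST.trans C.diagonal_le_group
  have hfac : (Nat.card ↥G).factorization r = (Nat.card ↥T).factorization r := by
    letI : Fintype C.WG := Fintype.ofFinite _
    have hco : ¬ r ∣ Nat.card K ^ (D.nroots / 2) * ∑ σ : C.WG, Nat.card K ^ C.len (σ : Equiv.Perm (Rt D)) := by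
      have hK1 : ((Nat.card K : ℕ) : ZMod r) = 1 := by
        rw [hK, Nat.cast_pow, pow_orderOf_eq_one]
      intro h
      rw [← ZMod.natCast_eq_zero_iff, Nat.cast_mul, Nat.cast_pow, Nat.cast_sum] at h
      simp only [Nat.cast_pow, hK1, one_pow, one_mul, Finset.sum_const, Finset.card_univ, nsmul_eq_mul, mul_one] at h
      exact hW ((ZMod.natCast_eq_zero_iff _ r).1 (by rwa [← Nat.card_eq_fintype_card] at h))
    rw [hG, H.card_group, H.card_borel, mul_comm (Nat.card K ^ (D.nroots / 2)), mul_assoc,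
      Nat.factorization_mul Nat.card_pos.ne' (fun h => hco (by rw [h]; exact dvd_zero _)),
      Finsupp.add_apply, Nat.factorization_eq_zero_of_not_dvd hco, add_zero]
  have hcSS : Nat.card ↥(SS.subgroupOf G) = r ^ (Nat.card ↥G).factorization r := by
    rw [Nat.card_congr (Subgroup.subgroupOfEquivOfLe hSSG).toEquiv, hfac,
      Subgroup.card_map_of_injective T.subtype_injective]
    exact PT.card_eq_multiplicity
  let P0 : Sylow r ↥G := Sylow.ofCard (SS.subgroupOf G) hcSS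
  have hTcomm : ∀ a ∈ T, ∀ b ∈ T, a * b = b * a := by
    intro a ha b hb
    obtain ⟨c, rfl⟩ := C.mem_diagonal_iff.1 ha
    obtain ⟨c', rfl⟩ := C.mem_diagonal_iff.1 hb
    rw [C.HT_mul, C.HT_mul, mul_comm]
  haveI hTm : IsMulCommutative ↥T := ⟨⟨fun a b => Subtype.ext (hTcomm _ a.2 _ b.2)⟩⟩
  have hHTpow : ∀ (c : Fin D.rank → Kˣ) (k : ℕ), C.HT K (c ^ k) = C.HT K c ^ k := fun c k =>
    map_pow (C.HThom K) c k
  have hTexp : ∀ t ∈ T, t ^ (Q - 1) = 1 := by
    intro t ht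
    obtain ⟨c, rfl⟩ := C.mem_diagonal_iff.1 ht
    rw [← hHTpow, show c ^ (Q - 1) = 1 from funext fun j => ?_, C.HT_one]
    rw [Pi.pow_apply, Pi.one_apply, ← orderOf_dvd_iff_pow_eq_one, ← hK, ← Nat.card_units]
    exact orderOf_dvd_natCard _
  have hmemSS : ∀ c : Fin D.rank → Kˣ, C.HT K c ^ r = 1 → C.HT K c ∈ SS := by
    intro c hc
    let t : ↥T := ⟨C.HT K c, C.HT_mem_diagonal c⟩
    have hpg : IsPGroup r (Subgroup.zpowers t) := by
      intro u
      refine ⟨1, ?_⟩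
      obtain ⟨i, hi⟩ := u.2
      apply Subtype.ext
      rw [SubmonoidClass.coe_pow, ← hi, pow_one, OneMemClass.coe_one]
      show (t ^ i) ^ r = 1
      rw [← zpow_natCast, ← zpow_mul, mul_comm, zpow_mul, zpow_natCast, show t ^ r = 1 from Subtype.ext hc, one_zpow]
    obtain ⟨P', hP'⟩ := hpg.exists_le_sylow
    haveI : (PT : Subgroup ↥T).Normal := ⟨fun a ha b => by
      rwa [show b * a * b⁻¹ = a by rw [Subtype.ext (hTcomm _ b.2 _ a.2) (a1 := b * a) (a2 := a * b),
        mul_inv_cancel_right]]⟩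
    haveI := Sylow.unique_of_normal PT inferInstance
    exact ⟨t, Subsingleton.elim P' PT ▸ hP' (Subgroup.mem_zpowers t), rfl⟩
  -- conjugating P into the torus
  let mg := Matrix.GeneralLinearGroup.map (n := D.Idx) f
  have hmginj : Function.Injective mg := ChevFixed.map_injective (f := f) f.injective
  let φ : ↥(D.group F) →* ↥G :=
    (mg.comp (D.group F).subtype).codRestrict _ fun y => ChevFixed.map_group_le C f ⟨_, y.2, rfl⟩
  obtain ⟨P1, hP1⟩ := (P.isPGroup'.map φ).exists_le_sylow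
  obtain ⟨g0, hg0⟩ := MulAction.exists_smul_eq ↥G P1 P0
  set g : GL D.Idx K := ((g0 : GL D.Idx K))⁻¹ with hg
  have hgG : g ∈ G := inv_mem g0.2
  let ψ : ↥(P : Subgroup ↥(D.group F)) →* GL D.Idx K :=
    (MulAut.conj g⁻¹).toMonoidHom.comp (mg.comp ((D.group F).subtype.comp (P : Subgroup ↥(D.group F)).subtype))
  have hψinj : Function.Injective ψ := fun x y h =>
    Subtype.ext (Subtype.ext (hmginj ((MulAut.conj g⁻¹).injective h)))
  have hψ : ∀ x, ψ x = g⁻¹ * mg ((x : ↥(D.group F)) : GL D.Idx F) * g := fun x => by simp [ψ]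
  have hψSS : ∀ x, ψ x ∈ SS := by
    intro x
    have h1 : (g0 * φ x * g0⁻¹ : ↥G) ∈ (P0 : Subgroup ↥G) := by
      rw [← hg0]
      exact ⟨φ x, hP1 ⟨_, x.2, rfl⟩, rfl⟩
    rw [hψ, hg, inv_inv]
    exact h1
  have hcomm : ∀ x y : ↥(P : Subgroup ↥(D.group F)), x * y = y * x := fun x y => hψinj (by
    rw [map_mul, map_mul]; exact hTcomm _ (hSST (hψSS x)) _ (hSST (hψSS y)))
  have hexp : ∀ x : ↥(P : Subgroup ↥(D.group F)), x ^ r ^ (Q - 1).factorization r = 1 := by
    intro x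
    obtain ⟨j, hj⟩ := P.isPGroup' x
    obtain ⟨i, -, hi⟩ := (Nat.dvd_prime_pow hrp).1 (orderOf_dvd_of_pow_eq_one hj)
    have h1 : x ^ (Q - 1) = 1 := hψinj (by rw [map_pow, map_one, hTexp _ (hSST (hψSS x))])
    have h2 : r ^ i ∣ Q - 1 := hi ▸ orderOf_dvd_of_pow_eq_one h1
    rw [← orderOf_dvd_iff_pow_eq_one, hi]
    exact pow_dvd_pow r ((hrp.pow_dvd_iff_le_factorization (by omega)).1 h2)
  have hcardP : Nat.card ↥(P : Subgroup ↥(D.group F)) = r ^ (a * (Q - 1).factorization r) := by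
    rw [P.card_eq_multiplicity]
    congr 1
    obtain ⟨k, hk, hk'⟩ := hcard
    obtain ⟨hp0, hpf⟩ := factorization_prod_filter hq2 hrq degs hdegs
    have h := congrArg (fun n => n.factorization r) hk'
    have hk0 : k ≠ 0 := fun h0 => hk (by rw [h0]; exact dvd_zero r)
    simp only [Nat.factorization_mul hk0 Nat.card_pos.ne', Finsupp.add_apply,
      Nat.factorization_eq_zero_of_not_dvd hk, zero_add,
      Nat.factorization_mul (pow_ne_zero _ (by omega : q ≠ 0)) hp0, hpf, Nat.factorization_pow, Finsupp.smul_apply,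
      Nat.factorization_eq_zero_of_not_dvd hrq, smul_zero] at h
    exact h
  -- the transporting element
  let V := {x : ↥(P : Subgroup ↥(D.group F)) // x ^ r = 1}
  have hcV : ∀ x : V, ∃ c, ψ x.1 = C.HT K c := fun x => C.mem_diagonal_iff.1 (hSST (hψSS x.1))
  choose cV hcV using hcV
  let σg := Matrix.GeneralLinearGroup.map (n := D.Idx) σ
  have hσHT : ∀ e : Fin D.rank → Kˣ, σg (C.HT K e) = C.HT K (e ^ q) := fun e => by
    rw [ChevFixed.map_HT C σ e]
    congr 1
    funext j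
    exact Units.ext (hσ _)
  have hσmg : ∀ y : GL D.Idx F, σg (mg y) = mg y := fun y => Units.ext (Matrix.ext fun i j => hσf _)
  set n' := g⁻¹ * σg g with hn'
  have hn'G : n' ∈ G := mul_mem (inv_mem hgG) (ChevFixed.map_group_le C σ ⟨g, hgG, rfl⟩)
  have hrel : ∀ x : V, n' * C.HT K (cV x ^ q) = C.HT K (cV x) * n' := by
    intro x
    rw [← hσHT, ← hcV, hψ, map_mul, map_mul, map_inv, hσmg, hn']
    group
  let Z : Subgroup ↥G :=
    Subgroup.centralizer (Set.range fun x : V => (⟨C.HT K (cV x), C.HT_mem_group _⟩ : ↥G))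
  have hcSS' : ∀ x : V, C.HT K (cV x) ∈ SS := fun x => hcV x ▸ hψSS x.1
  have hP0Z : (P0 : Subgroup ↥G) ≤ Z := by
    intro s hs
    rw [Subgroup.mem_centralizer_iff]
    rintro _ ⟨x, rfl⟩
    exact Subtype.ext (hTcomm _ (hSST (hcSS' x)) _ (hSST hs))
  let P2 : Sylow r ↥G := (⟨n', hn'G⟩ : ↥G) • P0
  have hP2Z : (P2 : Subgroup ↥G) ≤ Z := by
    rintro _ ⟨s, hs, rfl⟩
    rw [Subgroup.mem_centralizer_iff]
    rintro _ ⟨x, rfl⟩
    refine Subtype.ext ?_
    show C.HT K (cV x) * (n' * (s : GL D.Idx K) * n'⁻¹) = n' * (s : GL D.Idx K) * n'⁻¹ * C.HT K (cV x)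
    have h1 : (s : GL D.Idx K) * C.HT K (cV x ^ q) = C.HT K (cV x ^ q) * (s : GL D.Idx K) :=
      hTcomm _ (hSST hs) _ (C.HT_mem_diagonal _)
    have h2 : n'⁻¹ * C.HT K (cV x) = C.HT K (cV x ^ q) * n'⁻¹ := by
      rw [inv_mul_eq_iff_eq_mul, ← mul_assoc, hrel, mul_inv_cancel_right]
    calc C.HT K (cV x) * (n' * (s : GL D.Idx K) * n'⁻¹) = (C.HT K (cV x) * n') * (s : GL D.Idx K) * n'⁻¹ := by group
      _ = n' * (C.HT K (cV x ^ q) * (s : GL D.Idx K)) * n'⁻¹ := by rw [← hrel]; group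
      _ = n' * ((s : GL D.Idx K) * (C.HT K (cV x ^ q) * n'⁻¹)) := by rw [← h1]; group
      _ = _ := by rw [← h2]; group
  obtain ⟨z, hz⟩ := MulAction.exists_smul_eq ↥Z (P2.subtype hP2Z) (P0.subtype hP0Z)
  set m0 : GL D.Idx K := ((z : ↥G) : GL D.Idx K) * n' with hm0
  have hm0G : m0 ∈ G := mul_mem (z : ↥G).2 hn'G
  have hm0c : ∀ x : V, m0 * C.HT K (cV x ^ q) = C.HT K (cV x) * m0 := by
    intro x
    have hzA : C.HT K (cV x) * ((z : ↥G) : GL D.Idx K) = ((z : ↥G) : GL D.Idx K) * C.HT K (cV x) :=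
      congrArg Subtype.val (Subgroup.mem_centralizer_iff.1 z.2 _ ⟨x, rfl⟩)
    rw [hm0, mul_assoc, hrel, ← mul_assoc, ← hzA, mul_assoc]
  have hnorm : ∀ s ∈ SS, m0 * s * m0⁻¹ ∈ SS := by
    intro s hs
    let s' : ↥G := ⟨s, hSSG hs⟩
    have h1 : (⟨n', hn'G⟩ : ↥G) * s' * (⟨n', hn'G⟩ : ↥G)⁻¹ ∈ (P2 : Subgroup ↥G) :=
      ⟨s', hs, rfl⟩
    have h2 : z * ⟨_, hP2Z h1⟩ * z⁻¹ ∈ ((P0.subtype hP0Z : Sylow r ↥Z) : Subgroup ↥Z) := by
      rw [← hz]
      exact ⟨⟨_, hP2Z h1⟩, h1, rfl⟩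
    have h3 : ((z : ↥G) : GL D.Idx K) * (n' * s * n'⁻¹) * ((z : ↥G) : GL D.Idx K)⁻¹ ∈ SS := h2
    rw [hm0, mul_inv_rev]
    convert h3 using 1
    group
  haveI : Finite ↥SS := Finite.of_injective (Subgroup.inclusion hSSG) (Subgroup.inclusion_injective hSSG)
  have hnorm' : ∀ s ∈ SS, ∃ t ∈ SS, m0 * t * m0⁻¹ = s := by
    intro s hs
    let cj : ↥SS → ↥SS := fun t => ⟨m0 * t.1 * m0⁻¹, hnorm _ t.2⟩
    have hi : Function.Injective cj := fun t t' h =>
      Subtype.ext (mul_left_cancel (mul_right_cancel (congrArg Subtype.val h)))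
    obtain ⟨t, ht⟩ := Finite.injective_iff_surjective.1 hi ⟨s, hs⟩
    exact ⟨t.1, t.2, congrArg Subtype.val ht⟩
  -- enough torsion in the torus
  obtain ⟨ζ, hζ⟩ := exists_prime_orderOf_dvd_card' (G := Kˣ) r (by rwa [Nat.card_units, hK])
  have hζr : ζ ^ r = 1 := hζ ▸ pow_orderOf_eq_one ζ
  have hchpow : ∀ (e : Fin D.rank → Kˣ) (k : ℕ) (y : Rt D), C.chA (e ^ k) y = C.chA e y ^ k := fun e k y => by
    simp only [Core.chA, Pi.pow_apply, ← zpow_natCast, ← Finset.prod_zpow, ← zpow_mul, mul_comm]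
  have hone : ∀ y, C.chA (1 : Fin D.rank → Kˣ) y = 1 := fun y => by simp [Core.chA]
  let N : Matrix (Fin D.rank) (Fin D.rank) (ZMod r) := Matrix.of fun j m => (A D j (C.p m) : ZMod r)
  let Xi : Matrix (Fin D.rank) (Fin D.rank) (ZMod r) :=
    Matrix.of fun m k => (d0 : ZMod r)⁻¹ * ((B.getD k.val []).getD m.val 0 : ℤ)
  have hd0' : (d0 : ZMod r) ≠ 0 := fun h => hd0 ((ZMod.natCast_eq_zero_iff d0 r).1 h)
  have hXN : Xi * N = 1 := by
    rw [mul_eq_one_comm]
    ext j k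
    have h1 := congrArg (fun x : ℤ => (x : ZMod r)) (hB j k)
    simp only [Int.cast_sum, Int.cast_mul] at h1
    have h2 : (N * Xi) j k = (d0 : ZMod r)⁻¹ * ∑ m : Fin D.rank,
        (A D j (C.p m) : ZMod r) * ((B.getD k.val []).getD m.val 0 : ℤ) := by
      rw [Matrix.mul_apply, Finset.mul_sum]
      exact Finset.sum_congr rfl fun m _ => mul_left_comm _ _ _
    rw [h2]
    have h3 : ∀ m : Fin D.rank, A D j (C.p m) = D.cartan j.val (D.simple m.val) := fun m => by
      rw [C.simple_eq]; rfl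
    simp only [h3]
    rw [h1, Matrix.one_apply]
    split_ifs
    · rw [Int.cast_natCast, inv_mul_cancel₀ hd0']
    · rw [Int.cast_zero, mul_zero]
  let ι := {e : (Fin D.rank → Kˣ) × (Fin D.rank → Kˣ) //
    C.HT K e.1 ∈ SS ∧ C.HT K e.2 ∈ SS ∧ m0 * C.HT K e.1 = C.HT K e.2 * m0}
  have hgen : ∀ y, ∃ e : Fin D.rank → Kˣ, C.HT K e ∈ SS ∧ C.chA e y ≠ 1 := by
    intro y
    -- a root is primitive modulo r
    obtain ⟨k, hk⟩ : ∃ k, (C.v y k : ZMod r) ≠ 0 := by
      by_contra h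
      push Not at h
      obtain ⟨i, w, hwW, hw⟩ : ∃ i, ∃ w ∈ C.WG, w y = C.p i := by
        refine C.ind (fun y => ∃ i, ∃ w ∈ C.WG, w y = C.p i) (fun i => ⟨i, 1, one_mem _, rfl⟩) ?_ y
        rintro i x ⟨j, w, hw, hwx⟩
        refine ⟨j, w * C.sref i, mul_mem hw (Subgroup.subset_closure ⟨i, rfl⟩), ?_⟩
        rw [Equiv.Perm.mul_apply, C.sref_apply, C.w_w, hwx]
      have h1 := congrFun (mat_mulVec C hwW y) i
      rw [hw, C.v_p, Pi.single_eq_same, Matrix.mulVec, dotProduct] at h1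
      have h2 := congrArg (fun x : ℤ => (x : ZMod r)) h1
      simp [h] at h2
    let e : Fin D.rank → Kˣ := fun j => ζ ^ ((Xi k j).val : ℤ)
    have he : ∀ m, C.chA e (C.p m) = ζ ^ (if k = m then (1 : ℤ) else 0) := by
      intro m
      rw [Core.chA]
      simp only [e, ← _root_.zpow_mul]
      rw [← C.zpow_fsum, zpow_ext hζ]
      have := congrFun (congrFun hXN k) m
      rw [Matrix.mul_apply, Matrix.one_apply] at this
      push_cast
      simp only [ZMod.natCast_val, ZMod.cast_id', id_eq]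
      exact this
    refine ⟨e, hmemSS e ?_, fun h => hk ?_⟩
    · rw [← hHTpow, ← C.HT_one K]
      refine RegTorus.HT_ext fun j => ?_
      rw [hchpow, hone, he, ← zpow_natCast, ← _root_.zpow_mul, mul_comm, _root_.zpow_mul, zpow_natCast, hζr, one_zpow]
    · have h1 : C.chA e y = ζ ^ (C.v y k) := by
        rw [← C.chr_chA, Core.chr, Finset.prod_eq_single k]
        · rw [he, if_pos rfl, zpow_one]
        · intro m _ hm; rw [he, if_neg (Ne.symm hm), zpow_zero, one_zpow]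
        · simp
      rw [h1, ← zpow_zero ζ, zpow_ext hζ, Int.cast_zero] at h
      exact h
  have hgen1 : ∀ y, ∃ i : ι, C.chA i.1.1 y ≠ 1 := by
    intro y
    obtain ⟨e, he, hey⟩ := hgen y
    obtain ⟨e', he'⟩ := C.mem_diagonal_iff.1 (hSST (hnorm _ he))
    exact ⟨⟨(e, e'), he, he' ▸ hnorm _ he, by rw [← he', inv_mul_cancel_right]⟩, hey⟩
  have hgen2 : ∀ y, ∃ i : ι, C.chA i.1.2 y ≠ 1 := by
    intro y
    obtain ⟨e, he, hey⟩ := hgen y
    obtain ⟨t, ht, hte⟩ := hnorm' _ he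
    obtain ⟨e', rfl⟩ := C.mem_diagonal_iff.1 (hSST ht)
    exact ⟨⟨(e', e), ht, he, by rw [← hte, inv_mul_cancel_right]⟩, hey⟩
  obtain ⟨e0, L, -, hπ0⟩ := exists_wprod_of_conj H (c := fun i : ι => i.1.1) (c' := fun i => i.1.2) hgen1 hgen2
    hm0G (fun i => i.2.2.2)
  set π := C.pprod L
  have hπW : π ∈ C.WG := C.pprod_mem_WG L
  have hπc : ∀ (x : V) y, C.chA (cV x) (π y) = C.chA (cV x) y ^ q := by
    intro x y
    rw [← hchpow]
    exact hπ0 ⟨(cV x ^ q, cV x), by rw [hHTpow]; exact pow_mem (hcSS' x) q, hcSS' x, hm0c x⟩ y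
  -- coordinates of the torsion
  have hzp : ∀ u : Kˣ, u ^ r = 1 → ∃ a : ℤ, ζ ^ a = u := by
    intro u hu
    have h1 : Subgroup.zpowers ζ = (powMonoidHom r : Kˣ →* Kˣ).ker := by
      refine Subgroup.eq_of_le_of_card_ge ?_ ?_
      · rw [Subgroup.zpowers_le, MonoidHom.mem_ker, powMonoidHom_apply, hζr]
      · rw [IsCyclic.card_powMonoidHom_ker, Nat.card_zpowers, hζ]
        exact Nat.gcd_le_right _ hrp.pos
    have h2 : u ∈ Subgroup.zpowers ζ := by rw [h1, MonoidHom.mem_ker, powMonoidHom_apply, hu]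
    exact h2
  have hlog : ∀ (x : V) k, ∃ a : ℤ, ζ ^ a = C.chA (cV x) (C.p k) := by
    intro x k
    refine hzp _ ?_
    have h1 : C.HT K (cV x ^ r) = C.HT K 1 := by
      rw [hHTpow, ← hcV, ← map_pow, x.2, map_one, C.HT_one]
    rw [← hchpow]
    exact (congrFun (C.diag_inj K h1) (C.p k)).trans (hone _)
  choose lg hlg using hlog
  let E : V → (Fin D.rank → ZMod r) := fun x k => (lg x k : ZMod r)
  have hEinj : Function.Injective E := by
    intro x x' h
    refine Subtype.ext (hψinj ?_)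
    rw [hcV, hcV]
    refine RegTorus.HT_ext fun k => ?_
    rw [← hlg, ← hlg, zpow_ext hζ]
    exact congrFun h k
  have hEeig : ∀ x, E x ∈ eig (mat C π) (q : ZMod r) := by
    intro x
    rw [mem_eig]
    have hev : ∀ y, C.chA (cV x) y = ζ ^ ev C (lg x) y := by
      intro y
      rw [← C.chr_chA, Core.chr, ev, dotProduct, C.zpow_fsum]
      exact Finset.prod_congr rfl fun k _ => by rw [← hlg, ← _root_.zpow_mul, Int.cast_id]
    have hevE : ∀ y, ((ev C (lg x) y : ℤ) : ZMod r) = ev C (E x) y := fun y => by simp [ev, dotProduct, E]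
    refine ev_ext C fun y => ?_
    rw [← ev_apply C (E x) hπW]
    have h1 := hπc x y
    rw [hev, hev, ← zpow_natCast, ← _root_.zpow_mul, zpow_ext hζ, hevE, Int.cast_mul, hevE, Int.cast_natCast] at h1
    rw [h1, mul_comm]
    simp [ev, smul_dotProduct]
  refine homocyclic hcomm hv0 hexp hcardP ?_
  calc Nat.card V ≤ Nat.card (eig (mat C π) (q : ZMod r)) :=
        Nat.card_le_card_of_injective (fun x => ⟨E x, hEeig x⟩) fun x x' h => hEinj (congrArg Subtype.val h)
    _ = r ^ Module.finrank (ZMod r) (eig (mat C π) (q : ZMod r)) := by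
        rw [Module.natCard_eq_pow_finrank (K := ZMod r), Nat.card_zmod]
    _ ≤ r ^ a := Nat.pow_le_pow_right hrp.pos (hbound π hπW)

end Cfsg.Agent.Lib.ChevStructure.SylowHom
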